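import Groth.Agent.Resolve.K913.Part2Loc
import Groth.Agent.Resolve.K891.Cut2
import Groth.Agent.Resolve.K891.KumPush
import Groth.Agent.Resolve.K937.PartI

/-!
# Node C of the resolution project: PartII

`K913.Part2.main : K891.Cut.PartII K` (`K` a field of characteristic zero): a strictly henselian Kummer chart whose
monomials descend to `B_q` up to units gives a smooth homomorphism `K[Q] → B_f` for some `f ∉ q`.
-/

set_option autoImplicit false
universe u

open K84.Iface K891.Cut Function IsLocalRing

namespace K913.Part2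

/-- the monoid of a chart is finitely generated -/
theorem fg {J : Type} [Fintype J] {M : AddSubgroup (J → ℤ)} {d : J → ℕ} (hd : ∀ j, 0 < d j)
    (hmem : ∀ j, ax j (d j : ℤ) ∈ M) : AddMonoid.FG (pos M) := by
  classical
  have hfin : Finite (K891.KumSub.Box M d) := K891.KumPush.finite_box
  refine AddMonoid.fg_iff.mpr ⟨Set.range (fun b : K891.KumSub.Box M d => b.1) ∪
    Set.range (K891.KumPush.axd hmem), ?_, (Set.finite_range _).union (Set.finite_range _)⟩
  rw [eq_top_iff]
  intro m _
  obtain ⟨b, k, rfl⟩ := K891.KumPush.exists_box hmem hd m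
  refine AddSubmonoid.add_mem _ (AddSubmonoid.subset_closure (Or.inl ⟨b, rfl⟩)) ?_
  rw [K891.KumPush.dv]
  refine AddSubmonoid.sum_mem _ fun j _ => AddSubmonoid.nsmul_mem _ ?_ _
  exact AddSubmonoid.subset_closure (Or.inr ⟨j, rfl⟩)

theorem sharp {J : Type} {M : AddSubgroup (J → ℤ)} (a b : pos M) (h : a + b = 0) : a = 0 := by
  by_contra ha
  exact K891.KumPush.add_ne_zero' a b ha h

section

variable {B : Type u} [CommRing B] [IsDomain B] {q : Ideal B} [q.IsPrime]

omit [IsDomain B] in
theorem awayTo_algebraMap (f : B) (hf : f ∉ q) (b : B) :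
    awayTo f hf (algebraMap B _ b) = algebraMap B (Localization.AtPrime q) b :=
  IsLocalization.Away.lift_eq f _ b

theorem awayTo_injective (f : B) (hf : f ∉ q) : Injective (awayTo f hf) := by
  rw [injective_iff_map_eq_zero]
  intro x hx
  obtain ⟨n, a, ha⟩ := IsLocalization.Away.surj f x
  have h1 : algebraMap B (Localization.AtPrime q) a = 0 := by
    rw [← awayTo_algebraMap f hf, ← ha, map_mul, hx, zero_mul]
  have h2 : a = 0 := IsLocalization.injective (Localization.AtPrime q) q.primeCompl_le_nonZeroDivisors
    (by rw [h1, map_zero])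
  rw [h2, map_zero] at ha
  exact ((IsLocalization.Away.algebraMap_pow_isUnit f n).mul_left_eq_zero).mp ha

/-- the values of a homomorphism from a finitely generated monoid lie in some `B_f` -/
theorem exists_descent {Q : Type} [AddCommMonoid Q] (hfg : AddMonoid.FG Q)
    (σ : Multiplicative Q →* Localization.AtPrime q) :
    ∃ (f : B) (hf : f ∉ q) (σ' : Multiplicative Q →* Localization.Away f),
      ∀ m, awayTo f hf (σ' m) = σ m := by
  classical
  obtain ⟨G, hG, hGf⟩ := AddMonoid.fg_iff.mp hfg
  obtain ⟨f, hf⟩ := IsLocalization.exist_integer_multiples_of_finset q.primeCompl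
    (hGf.toFinset.image fun m => σ (Multiplicative.ofAdd m))
  have hfq : f.1 ∉ q := f.2
  let N : AddSubmonoid Q :=
    { carrier := {m | σ (Multiplicative.ofAdd m) ∈ (awayTo f.1 hfq).range}
      zero_mem' := by
        change σ 1 ∈ (awayTo f.1 hfq).range
        rw [map_one]
        exact one_mem _
      add_mem' := by
        intro a b ha hb
        change σ (Multiplicative.ofAdd (a + b)) ∈ (awayTo f.1 hfq).range
        rw [ofAdd_add, map_mul]
        exact mul_mem ha hb }
  have hN : N = ⊤ := by
    rw [eq_top_iff, ← hG, AddSubmonoid.closure_le]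
    intro m hm
    obtain ⟨c, hc⟩ := hf (σ (Multiplicative.ofAdd m))
      (Finset.mem_image_of_mem _ (hGf.mem_toFinset.mpr hm))
    have hu : IsUnit (algebraMap B (Localization.Away f.1) f.1) := IsLocalization.Away.algebraMap_isUnit f.1
    refine ⟨algebraMap B _ c * hu.unit⁻¹, ?_⟩
    have hu' : IsUnit (algebraMap B (Localization.AtPrime q) f.1) := IsLocalization.map_units _ f
    have h1 : awayTo f.1 hfq (algebraMap B _ f.1 * (hu.unit⁻¹ : (Localization.Away f.1)ˣ)) = 1 := by
      rw [IsUnit.mul_val_inv, map_one]
    rw [map_mul, awayTo_algebraMap] at h1 ⊢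
    apply hu'.mul_left_cancel
    rw [mul_left_comm, h1, mul_one, hc, Algebra.smul_def]
  have hmem : ∀ m : Multiplicative Q, ∃ x, awayTo f.1 hfq x = σ m := by
    intro m
    have h2 : Multiplicative.toAdd m ∈ N := by rw [hN]; trivial
    exact h2
  choose s hs using hmem
  have hinj := awayTo_injective f.1 hfq
  refine ⟨f.1, hfq, { toFun := s, map_one' := hinj ?_, map_mul' := fun a b => hinj ?_ }, hs⟩
  · rw [hs, map_one, map_one]
  · rw [hs, map_mul, map_mul, hs, hs]

end

theorem main (K : Type u) [Field K] [CharZero K] : PartII K := by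
  intro B _ _ _ _ _ r t q _ H σ hσ
  classical
  have hfg : AddMonoid.FG (pos H.M) := fg H.d_pos H.d_mem
  have hftR : Algebra.FiniteType K (AddMonoidAlgebra K (pos H.M)) := inferInstance
  have hnR : IsNoetherianRing (AddMonoidAlgebra K (pos H.M)) := Algebra.FiniteType.isNoetherianRing K _
  obtain ⟨f, hf, σ', hσ'⟩ := exists_descent hfg σ
  -- the algebra `P = B_f`
  let P := Localization.Away f
  have hfpP : Algebra.FinitePresentation B P := IsLocalization.Away.finitePresentation f
  have hftP : Algebra.FiniteType K P := Algebra.FiniteType.trans (S := B) inferInstance inferInstance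
  let : Algebra P H.S := (H.toLoc.comp (awayTo f hf)).toAlgebra
  have hPS : ∀ b : B, algebraMap P H.S (algebraMap B P b) = algebraMap B H.S b := by
    intro b
    change H.toLoc (awayTo f hf (algebraMap B P b)) = _
    rw [awayTo_algebraMap, H.toLoc_algebraMap]
  have htow : IsScalarTower B P H.S := IsScalarTower.of_algebraMap_eq fun b => (hPS b).symm
  have htowK : IsScalarTower K P H.S := by
    refine IsScalarTower.of_algebraMap_eq fun c => ?_
    rw [IsScalarTower.algebraMap_apply K B P, hPS, ← IsScalarTower.algebraMap_apply]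
  have hflB : Module.Flat B H.S := Groth.Agent.CalgC.IndEtale.IsInd.flat
    Groth.Agent.CalgC.IndEtale.isGood_etale H.isIndEtale
  have hflP : Module.Flat P H.S := (Module.flat_iff_of_isLocalization P (Submonoid.powers f) H.S).mpr hflB
  have hτm : ∀ m : pos H.M, m ≠ 0 → H.τ (Multiplicative.ofAdd m) ∈ maximalIdeal H.S := by
    intro m hm
    by_contra hu
    have hu' : IsUnit (H.τ (Multiplicative.ofAdd m)) := by
      by_contra h
      exact hu h
    have h1 : Ideal.span (Set.range fun m : {m : pos H.M // m ≠ 0} => H.τ (Multiplicative.ofAdd m.1)) = ⊤ :=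
      Ideal.eq_top_of_isUnit_mem _ (Ideal.subset_span ⟨⟨m, hm⟩, rfl⟩) hu'
    have h2 := H.regular
    have h3 : Nontrivial (H.S ⧸ Ideal.span (Set.range fun m : {m : pos H.M // m ≠ 0} =>
      H.τ (Multiplicative.ofAdd m.1))) := inferInstance
    exact (Ideal.Quotient.nontrivial_iff.mp h3) h1
  let q' : Ideal P := (maximalIdeal H.S).comap (algebraMap P H.S)
  have hq' : q'.IsPrime := Ideal.comap_isPrime _ _
  have hq'q : q'.comap (algebraMap B P) = q := by
    rw [Ideal.comap_comap, ← IsScalarTower.algebraMap_eq, H.comap_maximalIdeal]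
  have hsm := K913.Part2Loc.isSmoothAt (K := K) (Q := pos H.M) sharp (P := P) (S := H.S) σ' H.τ
    (fun m => by
      rw [← hσ m]
      change Ideal.span {H.toLoc (awayTo f hf (σ' m))} = _
      rw [hσ'])
    (fun m => K937.PartI.tau_mem_nonZeroDivisors H (Multiplicative.toAdd m)) hτm H.flat H.regular q' rfl
  let : Algebra (AddMonoidAlgebra K (pos H.M)) P := (lift K σ').toAlgebra
  have hKRP : IsScalarTower K (AddMonoidAlgebra K (pos H.M)) P := by
    refine IsScalarTower.of_algebraMap_eq fun c => ?_
    exact ((AddMonoidAlgebra.lift K P (pos H.M) σ').commutes c).symm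
  have hftRP : Algebra.FiniteType (AddMonoidAlgebra K (pos H.M)) P :=
    Algebra.FiniteType.of_restrictScalars_finiteType K (AddMonoidAlgebra K (pos H.M)) P
  have hfpRP : Algebra.FinitePresentation (AddMonoidAlgebra K (pos H.M)) P :=
    Algebra.FinitePresentation.of_finiteType.mp hftRP
  have hsm' : Algebra.IsSmoothAt (AddMonoidAlgebra K (pos H.M)) q' := hsm
  obtain ⟨g, hg, hgs⟩ := Algebra.IsSmoothAt.exists_notMem_smooth (AddMonoidAlgebra K (pos H.M)) q'
  -- `P_g = B_{f b}`
  let b : B := (IsLocalization.Away.sec f g).1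
  have hb : Associated (algebraMap B P b) g := IsLocalization.Away.associated_sec_fst f g
  let T := Localization.Away g
  have hT : IsLocalization.Away (algebraMap B P b) T := IsLocalization.Away.of_associated hb.symm
  have hT' : IsLocalization.Away (f * b) T := IsLocalization.Away.mul' P T f b
  have hbq : b ∉ q := by
    intro h
    apply hg
    rw [← hq'q, Ideal.mem_comap] at h
    obtain ⟨v, hv⟩ := hb
    rw [← hv]
    exact Ideal.mul_mem_right _ _ h
  have hfb : f * b ∉ q := fun h => ((Ideal.IsPrime.mem_or_mem ‹q.IsPrime› h).elim hf hbq)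
  let e : T ≃ₐ[B] Localization.Away (f * b) := IsLocalization.algEquiv (Submonoid.powers (f * b)) _ _
  let φ : P →+* Localization.Away (f * b) := (e : T →+* _).comp (algebraMap P T)
  have hφ : ∀ x : B, φ (algebraMap B P x) = algebraMap B _ x := by
    intro x
    change e (algebraMap P T (algebraMap B P x)) = _
    rw [← IsScalarTower.algebraMap_apply]
    exact e.commutes x
  have hφ' : (awayTo (f * b) hfb).comp φ = awayTo f hf := by
    refine IsLocalization.ringHom_ext (Submonoid.powers f) (RingHom.ext fun x => ?_)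
    change awayTo (f * b) hfb (φ (algebraMap B P x)) = awayTo f hf (algebraMap B P x)
    rw [hφ, awayTo_algebraMap, awayTo_algebraMap]
  refine ⟨f * b, hfb, φ.comp (lift K σ'), ?_, ?_, ?_⟩
  · intro c
    change φ (lift K σ' (AddMonoidAlgebra.single 0 c)) = _
    rw [K913.Part2Loc.lift_single, ofAdd_zero, map_one, mul_one, IsScalarTower.algebraMap_apply K B P, hφ,
      ← IsScalarTower.algebraMap_apply]
  · have h1 : (algebraMap (AddMonoidAlgebra K (pos H.M)) T).Smooth := RingHom.smooth_algebraMap.mpr hgs
    have h2 : (e : T →+* Localization.Away (f * b)).Smooth := RingHom.Smooth.of_bijective e.bijective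
    exact h1.comp h2
  · intro m
    have h1 := RingHom.congr_fun hφ' (lift K σ' (AddMonoidAlgebra.single m 1))
    change awayTo (f * b) hfb (φ _) = _
    rw [RingHom.comp_apply] at h1
    rw [h1, K913.Part2Loc.lift_single, map_one, one_mul, hσ']

end K913.Part2
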