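import Groth.Agent.Resolve.K913.NcdChart
import Groth.Agent.Vanish.K661.NcdRes

/-!
# Blowing up the intersection of two members of a normal crossing family

`f : P ⟶ S`, `D` a normal crossing family relative to `f`, `a ≠ c`, `b : P1 ⟶ P` a blow up of `D a ⊔ D c` with exceptional
divisor `N`, and `A1 * N = D a`, `C1 * N = D c` on `P1`.

* `main` : `A1 ⊔ C1 = ⊤`, and `N`, the `D i` (`i ≠ a, c`), `A1`, `C1` form a normal crossing family relative to `b ≫ f`;
* `smooth` : `b ≫ f` is smooth if `f` is;
* `isEff_comap` : `D c` is effective Cartier on `D a`.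
-/

set_option autoImplicit false

universe u

open CategoryTheory CategoryTheory.Limits AlgebraicGeometry Opposite TopologicalSpace
open Groth.Agent.Sga67.Sec K922.Coord
open Groth.Agent.Divis.IdealComap Groth.Agent.Divis.EffCartier

namespace K913.BlowNcd

open LogNCD K913.NcdChart K913.BlowEt

variable {P P1 S : Scheme.{u}} {r : ℕ}

/-- The ratio of two generators of an invertible ideal. -/
theorem exists_ratio {X : Scheme.{u}} {N : X.IdealSheafData} {U : X.affineOpens} (hN : PrincAt N U) {x y : Γ(X, U.1)}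
    (hxy : N.ideal U = Ideal.span {x, y}) {z : X} (hz : z ∈ U.1) :
    ∃ (U' : X.affineOpens) (h : U'.1 ≤ U.1), z ∈ U'.1 ∧
      ((∃ t : Γ(X, U'.1), t * resO X h y = resO X h x) ∨ (∃ t : Γ(X, U'.1), t * resO X h x = resO X h y)) := by
  obtain ⟨g, hg, hNg⟩ := hN
  have hx : x ∈ Ideal.span {g} := by
    rw [← hNg, hxy]
    exact Ideal.subset_span (Or.inl rfl)
  have hy : y ∈ Ideal.span {g} := by
    rw [← hNg, hxy]
    exact Ideal.subset_span (Or.inr rfl)
  have hg' : g ∈ Ideal.span {x, y} := by
    rw [← hxy, hNg]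
    exact Ideal.mem_span_singleton_self g
  obtain ⟨p, hp⟩ := Ideal.mem_span_singleton'.mp hx
  obtain ⟨q, hq⟩ := Ideal.mem_span_singleton'.mp hy
  obtain ⟨m, l, hml⟩ := Ideal.mem_span_pair.mp hg'
  have h1 : m * p + l * q = 1 := by
    rw [mem_nonZeroDivisors_iff_right] at hg
    have h2 : (m * p + l * q - 1) * g = 0 := by
      have : m * (p * g) + l * (q * g) = g := by rw [hp, hq, hml]
      linear_combination this
    exact sub_eq_zero.mp (hg _ h2)
  have h3 : z ∈ X.basicOpen p ∨ z ∈ X.basicOpen q := by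
    by_contra hcon
    rw [not_or] at hcon
    have h4 := (X.mem_basicOpen (U := U.1) p z hz).not.mp hcon.1
    have h5 := (X.mem_basicOpen (U := U.1) q z hz).not.mp hcon.2
    have h6 := congrArg (X.presheaf.germ U.1 z hz) h1
    rw [map_add, map_mul, map_mul, map_one] at h6
    have h7 := IsLocalRing.isUnit_or_isUnit_of_add_one h6
    rcases h7 with h7 | h7
    · exact h4 (isUnit_of_mul_isUnit_right h7)
    · exact h5 (isUnit_of_mul_isUnit_right h7)
  rcases h3 with h3 | h3
  · refine ⟨⟨X.basicOpen p, U.2.basicOpen p⟩, X.basicOpen_le p, h3, Or.inr ?_⟩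
    have h8 : IsUnit (resO X (X.basicOpen_le p) p) := RingedSpace.isUnit_res_basicOpen _ p
    obtain ⟨p', hp'⟩ := h8.exists_left_inv
    refine ⟨resO X (X.basicOpen_le p) q * p', ?_⟩
    rw [← hp, ← hq, map_mul, map_mul]
    linear_combination (resO X (X.basicOpen_le p) q * resO X (X.basicOpen_le p) g) * hp'
  · refine ⟨⟨X.basicOpen q, U.2.basicOpen q⟩, X.basicOpen_le q, h3, Or.inl ?_⟩
    have h8 : IsUnit (resO X (X.basicOpen_le q) q) := RingedSpace.isUnit_res_basicOpen _ q
    obtain ⟨q', hq'⟩ := h8.exists_left_inv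
    refine ⟨resO X (X.basicOpen_le q) p * q', ?_⟩
    rw [← hp, ← hq, map_mul, map_mul]
    linear_combination (resO X (X.basicOpen_le q) p * resO X (X.basicOpen_le q) g) * hq'

theorem mul_span_cancel {A : Type*} [CommRing A] {g : A} (hg : g ∈ nonZeroDivisors A) {J K : Ideal A}
    (h : J * Ideal.span {g} = K * Ideal.span {g}) : J = K := by
  have key : ∀ {J K : Ideal A}, J * Ideal.span {g} ≤ K * Ideal.span {g} → J ≤ K := by
    intro J K h x hx
    have h1 : x * g ∈ K * Ideal.span {g} := h (Ideal.mul_mem_mul hx (Ideal.mem_span_singleton_self g))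
    obtain ⟨y, hy, h2⟩ := Ideal.mem_mul_span_singleton.mp h1
    rwa [← (mul_cancel_right_mem_nonZeroDivisors hg).mp h2]
  exact le_antisymm (key h.le) (key h.ge)

/-- The family of the transforms of a family of divisors under the blow up of the intersection of two of them. -/
noncomputable def newFam (D : Fin r → P.IdealSheafData) (a c : Fin r) (b : P1 ⟶ P) (A1 C1 : P1.IdealSheafData) :
    Fin (r + 1) → P1.IdealSheafData :=
  Fin.cons ((D a ⊔ D c).comap b) (Function.update (Function.update (fun i => (D i).comap b) a A1) c C1)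

theorem newFam_comm (D : Fin r → P.IdealSheafData) {a c : Fin r} (hac : a ≠ c) (b : P1 ⟶ P)
    (A1 C1 : P1.IdealSheafData) : newFam D a c b A1 C1 = newFam D c a b C1 A1 := by
  rw [newFam, newFam, sup_comm, Function.update_comm hac]

section Half

variable {f : P ⟶ S} {D : Fin r → P.IdealSheafData} {a c : Fin r} {b : P1 ⟶ P} {A1 C1 : P1.IdealSheafData}

/-- The divisors of the blow up on an open set where the exceptional divisor is cut out by the equation of the second
divisor. -/
theorem facts (hA : A1 * (D a ⊔ D c).comap b = (D a).comap b) (hC : C1 * (D a ⊔ D c).comap b = (D c).comap b)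
    {V0 : P.affineOpens} {x y : Γ(P, V0.1)} (hx : (D a).ideal V0 = Ideal.span {x}) (hy : (D c).ideal V0 = Ideal.span {y})
    {U : P1.affineOpens} (e : U.1 ≤ b ⁻¹ᵁ V0.1) (hpr : PrincAt ((D a ⊔ D c).comap b) U) {t : Γ(P1, U.1)}
    (ht : t * (b.appLE V0.1 U.1 e).hom y = (b.appLE V0.1 U.1 e).hom x) :
    ((D a ⊔ D c).comap b).ideal U = Ideal.span {(b.appLE V0.1 U.1 e).hom y} ∧
    A1.ideal U = Ideal.span {t} ∧ C1.ideal U = ⊤ := by
  have h1 : ((D a ⊔ D c).comap b).ideal U = Ideal.span {(b.appLE V0.1 U.1 e).hom y} := by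
    rw [ideal_comap _ b V0 U e, Scheme.IdealSheafData.ideal_sup, Pi.sup_apply, hx, hy, Ideal.map_sup,
      Ideal.map_span, Ideal.map_span, Set.image_singleton, Set.image_singleton, ← ht, sup_eq_right,
      Ideal.span_singleton_le_span_singleton]
    exact Dvd.intro_left t rfl
  obtain ⟨g, hg, hNg⟩ := hpr
  have h2 : (b.appLE V0.1 U.1 e).hom y ∈ nonZeroDivisors Γ(P1, U.1) := by
    have h3 : g ∈ Ideal.span {(b.appLE V0.1 U.1 e).hom y} := by
      rw [← h1, hNg]
      exact Ideal.mem_span_singleton_self g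
    obtain ⟨q, hq⟩ := Ideal.mem_span_singleton'.mp h3
    rw [mem_nonZeroDivisors_iff_right] at hg ⊢
    intro z hz
    apply hg
    rw [← hq]
    linear_combination q * hz
  refine ⟨h1, mul_span_cancel h2 ?_, mul_span_cancel h2 ?_⟩
  · have h4 := congrArg (fun J : P1.IdealSheafData => J.ideal U) hA
    simp only [Scheme.IdealSheafData.ideal_mul, Pi.mul_apply] at h4
    rw [h1, ideal_comap _ b V0 U e, hx, Ideal.map_span, Set.image_singleton, ← ht] at h4
    rw [h4, Ideal.span_singleton_mul_span_singleton]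
  · have h4 := congrArg (fun J : P1.IdealSheafData => J.ideal U) hC
    simp only [Scheme.IdealSheafData.ideal_mul, Pi.mul_apply] at h4
    rw [h1, ideal_comap _ b V0 U e, hy, Ideal.map_span, Set.image_singleton] at h4
    rw [h4, Ideal.top_mul]

/-- Coordinates of the transformed family where the exceptional divisor is cut out by the equation of the second
divisor. -/
theorem half (hac : a ≠ c) (hb : BlowUp.IsBlowUp b (D a ⊔ D c)) (hA : A1 * (D a ⊔ D c).comap b = (D a).comap b)
    (hC : C1 * (D a ⊔ D c).comap b = (D c).comap b) {W : P.Opens} (k : Coords f D W) {α β : Fin k.n}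
    (hα : k.s a = some α) (hβ : k.s c = some β) (U1 : P1.affineOpens) (V0 : P.affineOpens) (hV : V0.1 ≤ W)
    (e : U1.1 ≤ b ⁻¹ᵁ V0.1) (hpr : PrincAt ((D a ⊔ D c).comap b) U1) (t : Γ(P1, U1.1))
    (ht : t * (b.appLE V0.1 U1.1 e).hom (sectOn W hV (k.v (ULift.up β))) =
      (b.appLE V0.1 U1.1 e).hom (sectOn W hV (k.v (ULift.up α)))) :
    Nonempty (Coords (b ≫ f) (newFam D a c b A1 C1) U1.1) ∧ C1.ideal U1 = ⊤ := by
  have hαβ : α ≠ β := by
    rintro rfl
    exact hac (k.inj a c α hα hβ)
  have hle : U1.1 ≤ b ⁻¹ᵁ W := e.trans (b.preimage_mono hV)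
  let p : U1.1.toScheme ⟶ W.toScheme := P1.homOfLE hle ≫ (b ∣_ W)
  have hp : p ≫ W.ι = U1.1.ι ≫ b := by
    simp only [p, Category.assoc, morphismRestrict_ι, Scheme.homOfLE_ι_assoc]
  have key : ∀ (U : P1.affineOpens) (h : U.1 ≤ U1.1) (z : Γ(W, ⊤)),
      sectOn U1.1 h (p.appTop z) = (b.appLE V0.1 U.1 (h.trans e)).hom (sectOn W hV z) := by
    intro U h z
    have h1 := K911.Ncd.appLE_sectOn b W hV (h.trans e) z
    have h2 := sectOn_homOfLE hle h ((b ∣_ W).appTop z)
    exact h2.trans h1.symm
  let t' : Γ(U1.1, ⊤) := U1.1.topIso.inv t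
  have ht1 : ∀ (U : P1.affineOpens) (h : U.1 ≤ U1.1), sectOn U1.1 h t' = resO P1 h t := by
    intro U h
    rw [sectOn_apply]
    have h3 : U1.1.topIso.hom t' = t := congr($(U1.1.topIso.inv_hom_id) t)
    change P1.presheaf.map (homOfLE h).op (U1.1.topIso.hom t') = _
    rw [h3]
    rfl
  have hinj : Function.Injective (sectOn U1.1 le_rfl : Γ(U1.1, ⊤) → Γ(P1, U1.1)) := by
    intro x y hxy
    rw [sectOn_apply, sectOn_apply] at hxy
    have h3 : resO P1 le_rfl (U1.1.topIso.hom x) = resO P1 le_rfl (U1.1.topIso.hom y) := hxy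
    rw [resO_self, resO_self] at h3
    exact (ConcreteCategory.bijective_of_isIso U1.1.topIso.hom).1 h3
  have hmul : ∀ x y : Γ(U1.1, ⊤), sectOn U1.1 le_rfl (x * y) = sectOn U1.1 le_rfl x * sectOn U1.1 le_rfl y := by
    intro x y
    simp only [sectOn_apply, map_mul]
  have ht' : t' * p.appTop (k.v (ULift.up β)) = p.appTop (k.v (ULift.up α)) := by
    apply hinj
    rw [hmul, key U1 le_rfl, key U1 le_rfl, ht1 U1 le_rfl, resO_self]
    exact ht
  have hI : ∀ (U : P.affineOpens) (h : U.1 ≤ W), (D a ⊔ D c).ideal U =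
      Ideal.span {sectOn W h (k.v (ULift.up α)), sectOn W h (k.v (ULift.up β))} := by
    intro U h
    rw [Scheme.IdealSheafData.ideal_sup, Pi.sup_apply, k.ideal_some a α hα U h, k.ideal_some c β hβ U h,
      ← Ideal.span_union]
    rfl
  have hne : (ULift.up α : ULift.{u} (Fin k.n)) ≠ ULift.up β := fun h => hαβ (congrArg ULift.down h)
  have het := etale_of_isBlowUp f k.v (ULift.up α) (ULift.up β) k.etale hne hI hb U1.1 p hp t' ht'
  have hres : ∀ (U : P1.affineOpens) (h : U.1 ≤ U1.1), resO P1 h t *
      (b.appLE V0.1 U.1 (h.trans e)).hom (sectOn W hV (k.v (ULift.up β))) =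
      (b.appLE V0.1 U.1 (h.trans e)).hom (sectOn W hV (k.v (ULift.up α))) := by
    intro U h
    rw [← key U h, ← key U h, ← ht1 U h, ← ht']
    simp only [sectOn_apply, map_mul]
  have hfacts : ∀ (U : P1.affineOpens) (h : U.1 ≤ U1.1), _ := fun U h =>
    facts hA hC (k.ideal_some a α hα V0 hV) (k.ideal_some c β hβ V0 hV) (h.trans e) (PrincAt.mono hpr h) (hres U h)
  have hwβ : Function.update (fun γ => p.appTop (k.v γ)) (ULift.up α) t' (ULift.up β) = p.appTop (k.v (ULift.up β)) :=
    Function.update_of_ne hne.symm _ _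
  have hwα : Function.update (fun γ => p.appTop (k.v γ)) (ULift.up α) t' (ULift.up α) = t' :=
    Function.update_self _ _ _
  have hwm : ∀ m : Fin k.n, m ≠ α → Function.update (fun γ => p.appTop (k.v γ)) (ULift.up α) t' (ULift.up m) =
      p.appTop (k.v (ULift.up m)) := fun m hm =>
    Function.update_of_ne (fun h => hm (congrArg ULift.down h)) _ _
  refine ⟨⟨k.n, _, Fin.cons (some β) (Function.update k.s c none), ?_, het, ?_, ?_⟩, (hfacts U1 le_rfl).2.2⟩
  · intro i j m hi hj
    induction i using Fin.cases with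
    | zero =>
      induction j using Fin.cases with
      | zero => rfl
      | succ j =>
        exfalso
        rw [Fin.cons_zero, Option.some.injEq] at hi
        rw [Fin.cons_succ] at hj
        by_cases hjc : j = c
        · subst hjc
          simp at hj
        · rw [Function.update_of_ne hjc] at hj
          subst hi
          exact hjc (k.inj j c _ hj hβ)
    | succ i =>
      induction j using Fin.cases with
      | zero =>
        exfalso
        rw [Fin.cons_zero, Option.some.injEq] at hj
        rw [Fin.cons_succ] at hi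
        by_cases hic : i = c
        · subst hic
          simp at hi
        · rw [Function.update_of_ne hic] at hi
          subst hj
          exact hic (k.inj i c _ hi hβ)
      | succ j =>
        rw [Fin.cons_succ] at hi hj
        by_cases hic : i = c
        · subst hic
          simp at hi
        · by_cases hjc : j = c
          · subst hjc
            simp at hj
          · rw [Function.update_of_ne hic] at hi
            rw [Function.update_of_ne hjc] at hj
            rw [k.inj i j m hi hj]
  · intro i hi U hU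
    induction i using Fin.cases with
    | zero => simp at hi
    | succ i =>
      rw [Fin.cons_succ] at hi
      by_cases hic : i = c
      · subst hic
        simp only [newFam, Fin.cons_succ, Function.update_self]
        exact (hfacts U hU).2.2
      · rw [Function.update_of_ne hic] at hi
        have hia : i ≠ a := by
          rintro rfl
          rw [hα] at hi
          simp at hi
        simp only [newFam, Fin.cons_succ, Function.update_of_ne hic, Function.update_of_ne hia]
        rw [ideal_comap _ b V0 U (hU.trans e), k.ideal_none i hi V0 hV, Ideal.map_top]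
  · intro i m hi U hU
    induction i using Fin.cases with
    | zero =>
      rw [Fin.cons_zero, Option.some.injEq] at hi
      subst hi
      simp only [newFam, Fin.cons_zero]
      rw [hwβ, key U hU]
      exact (hfacts U hU).1
    | succ i =>
      rw [Fin.cons_succ] at hi
      by_cases hic : i = c
      · subst hic
        simp at hi
      · rw [Function.update_of_ne hic] at hi
        by_cases hia : i = a
        · subst hia
          rw [hα, Option.some.injEq] at hi
          subst hi
          simp only [newFam, Fin.cons_succ, Function.update_of_ne hic, Function.update_self]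
          rw [ht1 U hU]
          exact (hfacts U hU).2.1
        · have hm : m ≠ α := by
            rintro rfl
            exact hia (k.inj i a m hi hα)
          simp only [newFam, Fin.cons_succ, Function.update_of_ne hic, Function.update_of_ne hia]
          rw [hwm m hm, key U hU, ideal_comap _ b V0 U (hU.trans e), k.ideal_some i m hi V0 hV, Ideal.map_span,
            Set.image_singleton]

theorem exists_index {X : Scheme.{u}} {f : X ⟶ S} {D : Fin r → X.IdealSheafData} {W : X.Opens} (k : Coords f D W)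
    {x : X} (hx : x ∈ W) {i : Fin r} (hi : x ∈ (D i).support) : ∃ α, k.s i = some α := by
  obtain ⟨U₀, hU₀, hxU₀, hU₀W⟩ := exists_isAffineOpen_mem_and_subset (U := W) (x := x) hx
  rcases h : k.s i with _ | α
  · exfalso
    exact K922.Chart.notMem_support_of_ideal_eq_top (D i) ⟨U₀, hU₀⟩ (k.ideal_none i h ⟨U₀, hU₀⟩ hU₀W) x hxU₀ hi
  · exact ⟨α, rfl⟩

/-- Coordinates at a point over the centre. -/
theorem exists_center (hac : a ≠ c) (hb : BlowUp.IsBlowUp b (D a ⊔ D c))
    (hA : A1 * (D a ⊔ D c).comap b = (D a).comap b) (hC : C1 * (D a ⊔ D c).comap b = (D c).comap b) {y : P1}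
    (hD : ChartAt f D (b y)) (hya : b y ∈ (D a).support) (hyc : b y ∈ (D c).support) :
    ∃ U1 : P1.affineOpens, y ∈ U1.1 ∧ Nonempty (Coords (b ≫ f) (newFam D a c b A1 C1) U1.1) ∧
      (A1.ideal U1 = ⊤ ∨ C1.ideal U1 = ⊤) := by
  obtain ⟨W, hW, ⟨k⟩⟩ := hD
  obtain ⟨α, hα⟩ := exists_index k hW hya
  obtain ⟨β, hβ⟩ := exists_index k hW hyc
  obtain ⟨U, hyU, hpr⟩ := hb.1 y
  obtain ⟨V0, V1, hyV0, hyV1, hV1U, hV0W, e⟩ := exists_affine_le b y U.1 hyU W hW
  have hpr1 : PrincAt ((D a ⊔ D c).comap b) V1 := PrincAt.mono (U := U) hpr hV1U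
  have hN : ((D a ⊔ D c).comap b).ideal V1 =
      Ideal.span {(b.appLE V0.1 V1.1 e).hom (sectOn W hV0W (k.v (ULift.up α))),
        (b.appLE V0.1 V1.1 e).hom (sectOn W hV0W (k.v (ULift.up β)))} := by
    rw [ideal_comap _ b V0 V1 e, Scheme.IdealSheafData.ideal_sup, Pi.sup_apply, k.ideal_some a α hα V0 hV0W,
      k.ideal_some c β hβ V0 hV0W, Ideal.map_sup, Ideal.map_span, Ideal.map_span, Set.image_singleton,
      Set.image_singleton, ← Ideal.span_union]
    rfl
  have hres : ∀ (U' : P1.affineOpens) (h : U'.1 ≤ V1.1) (z : Γ(P, V0.1)),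
      resO P1 h ((b.appLE V0.1 V1.1 e).hom z) = (b.appLE V0.1 U'.1 (h.trans e)).hom z := by
    intro U' h z
    exact congr($(Scheme.Hom.appLE_map b e (homOfLE h).op).hom z)
  obtain ⟨U', h, hyU', ⟨t, ht⟩ | ⟨t, ht⟩⟩ := exists_ratio hpr1 hN hyV1
  · rw [hres, hres] at ht
    obtain ⟨h1, h2⟩ := half hac hb hA hC k hα hβ U' V0 hV0W (h.trans e) (PrincAt.mono hpr1 h) t ht
    exact ⟨U', hyU', h1, Or.inr h2⟩
  · rw [hres, hres] at ht
    rw [sup_comm] at hb hA hC hpr1
    obtain ⟨h1, h2⟩ := half hac.symm hb hC hA k hβ hα U' V0 hV0W (h.trans e) (PrincAt.mono hpr1 h) t ht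
    refine ⟨U', hyU', ?_, Or.inl h2⟩
    rwa [newFam_comm D hac b A1 C1]

theorem ideal_eq_of_top {X : Scheme.{u}} {I J N : X.IdealSheafData} (h : I * N = J) {U : X.affineOpens}
    (hN : N.ideal U = ⊤) : I.ideal U = J.ideal U := by
  rw [← h, Scheme.IdealSheafData.ideal_mul, Pi.mul_apply, hN, Ideal.mul_top]

/-- Coordinates at a point off the centre. -/
theorem exists_off (hb : BlowUp.IsBlowUp b (D a ⊔ D c))
    (hA : A1 * (D a ⊔ D c).comap b = (D a).comap b) (hC : C1 * (D a ⊔ D c).comap b = (D c).comap b) {y : P1}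
    (hD : ChartAt f D (b y)) (hy : b y ∉ (D a ⊔ D c).support) :
    ChartAt (b ≫ f) (newFam D a c b A1 C1) y := by
  obtain ⟨W, hyW, hWO, ⟨k⟩⟩ := hD.exists_le (D a ⊔ D c).support.compl hy
  have hiso : IsIso (b ∣_ W) := Groth.Agent.Divis.BlowUpFormal.isIso_morphismRestrict_compl_support hb W
    (Set.disjoint_left.mpr fun x hx hx' => hWO hx hx')
  have hN : ∀ U : P1.affineOpens, U.1 ≤ b ⁻¹ᵁ W → ((D a ⊔ D c).comap b).ideal U = ⊤ := by
    intro U hU
    refine K911.Ncd.ideal_eq_top_of_disjoint _ U fun z hz hzi => ?_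
    rw [K911.Ncd.mem_support_comap] at hzi
    exact hWO (hU hz) hzi
  refine ⟨b ⁻¹ᵁ W, hyW, ⟨(k.comap b).reindex (Fin.cons none some) ?_ ?_ ?_⟩⟩
  · intro i j m hi hj
    induction i using Fin.cases with
    | zero => simp at hi
    | succ i =>
      induction j using Fin.cases with
      | zero => simp at hj
      | succ j =>
        rw [Fin.cons_succ, Option.some.injEq] at hi hj
        rw [hi, hj]
  · intro i hi U hU
    induction i using Fin.cases with
    | zero => exact hN U hU
    | succ i => simp at hi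
  · intro i m hi U hU
    induction i using Fin.cases with
    | zero => simp at hi
    | succ i =>
      rw [Fin.cons_succ, Option.some.injEq] at hi
      subst hi
      by_cases hic : i = c
      · subst hic
        simp only [newFam, Fin.cons_succ, Function.update_self]
        exact ideal_eq_of_top hC (hN U hU)
      · by_cases hia : i = a
        · subst hia
          simp only [newFam, Fin.cons_succ, Function.update_of_ne hic, Function.update_self]
          exact ideal_eq_of_top hA (hN U hU)
        · simp only [newFam, Fin.cons_succ, Function.update_of_ne hic, Function.update_of_ne hia]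

theorem support_of_mul {X : Scheme.{u}} {I J N : X.IdealSheafData} (h : I * N = J) {x : X} (hx : x ∈ I.support) :
    x ∈ J.support := by
  rw [← h, Scheme.IdealSheafData.support_mul]
  exact Or.inl hx

theorem through_of_newFam (hA : A1 * (D a ⊔ D c).comap b = (D a).comap b)
    (hC : C1 * (D a ⊔ D c).comap b = (D c).comap b) {y : P1} (hy : Nonempty (Through (newFam D a c b A1 C1) y)) :
    Nonempty (Through D (b y)) := by
  obtain ⟨i, hi⟩ := hy
  induction i using Fin.cases with
  | zero =>
    simp only [newFam, Fin.cons_zero] at hi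
    rw [K911.Ncd.mem_support_comap] at hi
    rw [Scheme.IdealSheafData.support_sup] at hi
    exact ⟨⟨a, hi.1⟩⟩
  | succ i =>
    refine ⟨⟨i, ?_⟩⟩
    rw [← K911.Ncd.mem_support_comap]
    by_cases hic : i = c
    · subst hic
      simp only [newFam, Fin.cons_succ, Function.update_self] at hi
      exact support_of_mul hC hi
    · by_cases hia : i = a
      · subst hia
        simp only [newFam, Fin.cons_succ, Function.update_of_ne hic, Function.update_self] at hi
        exact support_of_mul hA hi
      · simpa only [newFam, Fin.cons_succ, Function.update_of_ne hic, Function.update_of_ne hia] using hi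

/-- The transformed family is a normal crossing family. -/
theorem isNCD_newFam (hD : IsNCD D f) (hac : a ≠ c) (hb : BlowUp.IsBlowUp b (D a ⊔ D c))
    (hA : A1 * (D a ⊔ D c).comap b = (D a).comap b) (hC : C1 * (D a ⊔ D c).comap b = (D c).comap b) :
    IsNCD (newFam D a c b A1 C1) (b ≫ f) := by
  refine isNCD_of_chartAt fun y hy => ?_
  have h1 := chartAt_of_isNCD hD (through_of_newFam hA hC hy)
  by_cases h2 : b y ∈ (D a ⊔ D c).support
  · rw [Scheme.IdealSheafData.support_sup] at h2
    obtain ⟨U1, hyU1, h3, -⟩ := exists_center hac hb hA hC h1 h2.1 h2.2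
    exact ⟨U1.1, hyU1, h3⟩
  · exact exists_off hb hA hC h1 h2

/-- The strict transforms of the two divisors do not meet. -/
theorem sup_eq_top (hD : IsNCD D f) (hac : a ≠ c) (hb : BlowUp.IsBlowUp b (D a ⊔ D c))
    (hA : A1 * (D a ⊔ D c).comap b = (D a).comap b) (hC : C1 * (D a ⊔ D c).comap b = (D c).comap b) :
    A1 ⊔ C1 = ⊤ := by
  rw [← Scheme.IdealSheafData.support_eq_bot_iff, Scheme.IdealSheafData.support_sup]
  ext y
  simp only [TopologicalSpace.Closeds.coe_inf, Set.mem_inter_iff, SetLike.mem_coe, TopologicalSpace.Closeds.coe_bot,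
    Set.mem_empty_iff_false, iff_false, not_and]
  intro hya hyc
  have h1 := support_of_mul hA hya
  have h2 := support_of_mul hC hyc
  rw [K911.Ncd.mem_support_comap] at h1 h2
  obtain ⟨U1, hyU1, -, h3 | h3⟩ := exists_center hac hb hA hC (chartAt_of_isNCD hD ⟨⟨a, h1⟩⟩) h1 h2
  · exact K922.Chart.notMem_support_of_ideal_eq_top A1 U1 h3 y hyU1 hya
  · exact K922.Chart.notMem_support_of_ideal_eq_top C1 U1 h3 y hyU1 hyc

end Half

/-- The blow up of the intersection of two members of a normal crossing family. -/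
theorem main (f : P ⟶ S) (D : Fin r → P.IdealSheafData) (h : LogNCD.IsNCD D f) (a c : Fin r) (hac : a ≠ c)
    (b : P1 ⟶ P) (hb : BlowUp.IsBlowUp b (D a ⊔ D c)) (A1 C1 : P1.IdealSheafData)
    (hA : A1 * (D a ⊔ D c).comap b = (D a).comap b) (hC : C1 * (D a ⊔ D c).comap b = (D c).comap b) :
    A1 ⊔ C1 = ⊤ ∧ LogNCD.IsNCD (Fin.cons ((D a ⊔ D c).comap b)
      (Function.update (Function.update (fun i => (D i).comap b) a A1) c C1)) (b ≫ f) :=
  ⟨sup_eq_top h hac hb hA hC, isNCD_newFam h hac hb hA hC⟩

theorem Coords.smooth {X : Scheme.{u}} {f : X ⟶ S} {D : Fin r → X.IdealSheafData} {W : X.Opens} (k : Coords f D W) :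
    Smooth (W.ι ≫ f) := by
  have h1 := k.etale
  rw [← AffineSpace.homOfVector_over (W.ι ≫ f) k.v]
  have : Smooth (𝔸(ULift.{u} (Fin k.n); S) ↘ S) := Groth.Agent.Pi1.H413.SecChart.smooth_affineSpace _ S
  infer_instance

/-- The blow up of the intersection of two members of a normal crossing family is smooth. -/
theorem smooth (f : P ⟶ S) [Smooth f] (D : Fin r → P.IdealSheafData) (h : LogNCD.IsNCD D f) (a c : Fin r)
    (hac : a ≠ c) (b : P1 ⟶ P) (hb : BlowUp.IsBlowUp b (D a ⊔ D c)) (A1 C1 : P1.IdealSheafData)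
    (hA : A1 * (D a ⊔ D c).comap b = (D a).comap b) (hC : C1 * (D a ⊔ D c).comap b = (D c).comap b) :
    Smooth (b ≫ f) := by
  have key : ∀ y : P1, ∃ W : P1.Opens, y ∈ W ∧ Smooth (W.ι ≫ b ≫ f) := by
    intro y
    by_cases h2 : b y ∈ (D a ⊔ D c).support
    · rw [Scheme.IdealSheafData.support_sup] at h2
      obtain ⟨U1, hyU1, ⟨k⟩, -⟩ := exists_center hac hb hA hC (chartAt_of_isNCD h ⟨⟨a, h2.1⟩⟩) h2.1 h2.2
      exact ⟨U1.1, hyU1, Coords.smooth k⟩
    · have hiso : IsIso (b ∣_ (D a ⊔ D c).support.compl) :=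
        Groth.Agent.Divis.BlowUpFormal.isIso_morphismRestrict_compl_support hb _ disjoint_compl_left
      refine ⟨b ⁻¹ᵁ (D a ⊔ D c).support.compl, h2, ?_⟩
      rw [← Category.assoc, ← morphismRestrict_ι]
      infer_instance
  choose W hyW hW using key
  rw [IsZariskiLocalAtSource.iff_of_iSup_eq_top (P := @Smooth) (U := W)
    (top_le_iff.mp fun y _ => Opens.mem_iSup.mpr ⟨y, hyW y⟩)]
  exact hW

/-- On a member of a normal crossing family the other members are effective Cartier divisors. -/
theorem isEff_comap (f : P ⟶ S) [Smooth f] (D : Fin r → P.IdealSheafData) (h : LogNCD.IsNCD D f) (a c : Fin r)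
    (hac : a ≠ c) : BlowUp.IsEffCartierIdeal ((D c).comap (D a).subschemeι) := by
  have h1 : LogNCD.IsNCD (Fin.snoc (α := fun _ => P.IdealSheafData) (fun _ : Fin 1 => D c) (D a)) f := by
    have h2 : ∀ i : Fin (1 + 1), (Fin.snoc (α := fun _ => P.IdealSheafData) (fun _ : Fin 1 => D c) (D a)) i =
        D ((![c, a] : Fin (1 + 1) → Fin r) i) := fun i => by
      fin_cases i
      · rfl
      · rfl
    have h3 : Function.Injective (![c, a] : Fin (1 + 1) → Fin r) := by
      intro i j hij
      fin_cases i <;> fin_cases j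
      · rfl
      · exact absurd hij.symm hac
      · exact absurd hij hac
      · rfl
    refine isNCD_of_chartAt fun x hx => ?_
    have hx' : Nonempty (Through D x) := by
      obtain ⟨i, hi⟩ := hx
      exact ⟨⟨_, (h2 i) ▸ hi⟩⟩
    obtain ⟨W, hxW, ⟨k⟩⟩ := chartAt_of_isNCD h hx'
    refine ⟨W, hxW, ⟨k.reindex (fun i => some ((![c, a] : Fin (1 + 1) → Fin r) i)) ?_ ?_ ?_⟩⟩
    · intro i j m hi hj
      exact h3 (Option.some.inj (hi.trans hj.symm))
    · intro i hi
      exact absurd hi (Option.some_ne_none _)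
    · intro i m hi U _
      rw [h2 i, Option.some.inj hi]
  exact K911.Ncd.isEff_of_isNCD (K661.NcdRes.isNCD_restrict f _ _ h1) 0

end K913.BlowNcd
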