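import Groth.Agent.Vanish.K911.Ncd
import Groth.Agent.LogNCD.K922.Chart

/-!
# Étale coordinates on the blow up of a codimension two stratum

`etale_of_isBlowUp`: if `v` are étale coordinates on `W ⊆ P` over `S`, `b : P1 ⟶ P` is a blow up of the ideal `(v_α, v_β)` and
`t v_β = v_α` on the open `U1` of `b⁻¹ W`, then `(v_γ, γ ≠ α; t)` are étale coordinates on `U1` over `S`.
-/

set_option autoImplicit false

universe u

open CategoryTheory CategoryTheory.Limits AlgebraicGeometry Opposite TopologicalSpace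
open Groth.Agent.Sga67.Sec K922.Coord
open Groth.Agent.Divis.IdealComap Groth.Agent.Divis.EffCartier

namespace K913.BlowEt

variable {P P1 S : Scheme.{u}}

theorem ι_app_sectOn {X : Scheme.{u}} {W : X.Opens} {U : X.Opens} (h : U ≤ W) (s : Γ(W, ⊤)) :
    (W.ι.app U).hom (LogNCD.sectOn W h s) = resO W.toScheme le_top s := by
  rw [LogNCD.sectOn_apply]
  have h1 : W.topIso.hom ≫ X.presheaf.map (homOfLE h).op ≫ W.ι.app U =
      W.toScheme.presheaf.map (homOfLE (le_top : W.ι ⁻¹ᵁ U ≤ ⊤)).op := by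
    rw [Scheme.Opens.ι_app]
    erw [Scheme.Opens.topIso_hom]
    exact (congrArg (X.presheaf.map _ ≫ ·) (X.presheaf.map_comp _ _).symm).trans
      ((X.presheaf.map_comp _ _).symm.trans (congrArg X.presheaf.map (Subsingleton.elim _ _)))
  exact congr($(h1) s)

/-- A function on an open subscheme, pulled back along a morphism to it. -/
theorem appLE_sectOn {X' X : Scheme.{u}} {W : X.Opens} (g : X' ⟶ W.toScheme) {U : X.Opens} (h : U ≤ W)
    {V : X'.Opens} (e : V ≤ (g ≫ W.ι) ⁻¹ᵁ U) (s : Γ(W, ⊤)) :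
    ((g ≫ W.ι).appLE U V e).hom (LogNCD.sectOn W h s) = resO X' le_top (g.appTop s) := by
  have h1 : (g ≫ W.ι).appLE U V e = W.ι.app U ≫ g.appLE (W.ι ⁻¹ᵁ U) V e := by
    rw [Scheme.Hom.comp_appLE]
  rw [h1]
  change (g.appLE (W.ι ⁻¹ᵁ U) V e).hom ((W.ι.app U).hom (LogNCD.sectOn W h s)) = _
  rw [ι_app_sectOn h s]
  change (W.toScheme.presheaf.map (homOfLE (le_top : W.ι ⁻¹ᵁ U ≤ ⊤)).op ≫ g.appLE (W.ι ⁻¹ᵁ U) V e) s = _
  rw [Scheme.Hom.map_appLE, Scheme.Hom.appLE]
  rfl

theorem sectOn_ι_appTop {X : Scheme.{u}} {W : X.Opens} {U : X.Opens} (h : U ≤ W) (y : Γ(X, ⊤)) :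
    LogNCD.sectOn W h (W.ι.appTop y) = resO X le_top y := by
  rw [LogNCD.sectOn_apply]
  have h1 : W.ι.appTop ≫ W.topIso.hom ≫ X.presheaf.map (homOfLE h).op =
      X.presheaf.map (homOfLE (le_top : U ≤ ⊤)).op := by
    rw [Scheme.Hom.appTop, Scheme.Opens.ι_app]
    erw [Scheme.Opens.topIso_hom]
    exact (congrArg (X.presheaf.map _ ≫ ·) (X.presheaf.map_comp _ _).symm).trans
      ((X.presheaf.map_comp _ _).symm.trans (congrArg X.presheaf.map (Subsingleton.elim _ _)))
  exact congr($(h1) y)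

/-- The coordinates of an étale morphism to affine space, as functions on the source. -/
theorem isCoord_top {X : Scheme.{u}} {σ : Type u} (g : X ⟶ 𝔸(σ; S)) [Etale g] :
    IsCoord (g ≫ 𝔸(σ; S) ↘ S) (⊤ : X.Opens) (fun j => g.appTop (AffineSpace.coord S j)) := by
  have h1 : Etale (AffineSpace.homOfVector ((⊤ : X.Opens).ι ≫ g ≫ 𝔸(σ; S) ↘ S)
      (fun j => (⊤ : X.Opens).ι.appTop (g.appTop (AffineSpace.coord S j)))) := by
    have h2 : AffineSpace.homOfVector ((⊤ : X.Opens).ι ≫ g ≫ 𝔸(σ; S) ↘ S)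
        (fun j => (⊤ : X.Opens).ι.appTop (g.appTop (AffineSpace.coord S j))) = (⊤ : X.Opens).ι ≫ g := by
      apply AffineSpace.hom_ext
      · simp
      · intro j
        rw [AffineSpace.homOfVector_appTop_coord]
        simp
    rw [h2]
    infer_instance
  have h2 := isCoord_of_etale (g ≫ 𝔸(σ; S) ↘ S) _ h1 (U := ⊤) le_rfl
  convert h2 using 2
  rw [sectOn_ι_appTop]
  exact (resO_self _ _).symm

/-- The function `s` is regular on affine opens. -/
theorem mem_nonZeroDivisors_of_isReg {X : Scheme.{u}} {s : Γ(X, ⊤)} (h : IsReg ⊤ s) (V : X.Opens) :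
    resO X (le_top : V ≤ ⊤) s ∈ nonZeroDivisors Γ(X, V) :=
  (h.restrict le_top).mem_nonZeroDivisors

theorem ι_appTop_mem_nonZeroDivisors {X : Scheme.{u}} {s : Γ(X, ⊤)} (h : IsReg ⊤ s) (O : X.Opens) :
    O.ι.appTop s ∈ nonZeroDivisors Γ(O, ⊤) := by
  have h1 := mem_nonZeroDivisors_of_isReg h O
  rw [← sectOn_ι_appTop (W := O) le_rfl s] at h1
  have h2 : Function.Injective (LogNCD.sectOn O le_rfl : Γ(O, ⊤) → Γ(X, O)) := by
    intro x y hxy
    rw [LogNCD.sectOn_apply, LogNCD.sectOn_apply] at hxy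
    have h3 : resO X le_rfl (O.topIso.hom x) = resO X le_rfl (O.topIso.hom y) := hxy
    rw [resO_self, resO_self] at h3
    exact (ConcreteCategory.bijective_of_isIso O.topIso.hom).1 h3
  rw [mem_nonZeroDivisors_iff_right] at h1 ⊢
  intro x hx
  apply h2
  have h4 := congrArg (LogNCD.sectOn O le_rfl : Γ(O, ⊤) → Γ(X, O)) hx
  simp only [LogNCD.sectOn_apply, map_mul, map_zero] at h1 h4 ⊢
  exact h1 _ h4

section Key

variable {ι : Type u} [DecidableEq ι]

/-- The chart `x_α ↦ x_α x_β` of the blow up of affine space. -/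
noncomputable def chartMap (S : Scheme.{u}) (α β : ι) : 𝔸(ι; S) ⟶ 𝔸(ι; S) :=
  AffineSpace.homOfVector (𝔸(ι; S) ↘ S)
    (Function.update (AffineSpace.coord S) α (AffineSpace.coord S α * AffineSpace.coord S β))

@[reassoc]
theorem chartMap_over (S : Scheme.{u}) (α β : ι) : chartMap S α β ≫ 𝔸(ι; S) ↘ S = 𝔸(ι; S) ↘ S :=
  AffineSpace.homOfVector_over _ _

theorem chartMap_coord (S : Scheme.{u}) (α β γ : ι) : (chartMap S α β).appTop (AffineSpace.coord S γ) =
    Function.update (AffineSpace.coord S) α (AffineSpace.coord S α * AffineSpace.coord S β) γ :=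
  AffineSpace.homOfVector_appTop_coord _ _ _

/-- Étale coordinates on the blow up of a codimension two stratum. -/
theorem etale_of_isBlowUp (f : P ⟶ S) {W : P.Opens} (v : ι → Γ(W, ⊤)) (α β : ι)
    (het : Etale (AffineSpace.homOfVector (W.ι ≫ f) v)) (hne : α ≠ β)
    {I : P.IdealSheafData} (hI : ∀ (U : P.affineOpens) (h : U.1 ≤ W),
      I.ideal U = Ideal.span {LogNCD.sectOn W h (v α), LogNCD.sectOn W h (v β)})
    {b : P1 ⟶ P} (hb : BlowUp.IsBlowUp b I) (U1 : P1.Opens) (p : U1.toScheme ⟶ W.toScheme)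
    (hp : p ≫ W.ι = U1.ι ≫ b) (t : Γ(U1, ⊤)) (ht : t * p.appTop (v β) = p.appTop (v α)) :
    Etale (AffineSpace.homOfVector (U1.ι ≫ b ≫ f) (Function.update (fun γ => p.appTop (v γ)) α t)) := by
  let φ := AffineSpace.homOfVector (W.ι ≫ f) v
  have : Etale φ := het
  have hφ : φ ≫ 𝔸(ι; S) ↘ S = W.ι ≫ f := AffineSpace.homOfVector_over _ _
  have hφv : ∀ γ, φ.appTop (AffineSpace.coord S γ) = v γ := fun γ =>
    AffineSpace.homOfVector_appTop_coord _ _ _
  let m := chartMap S α β
  let B := pullback φ m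
  let p1 : B ⟶ W.toScheme := pullback.fst φ m
  let p2 : B ⟶ 𝔸(ι; S) := pullback.snd φ m
  have : Etale p2 := inferInstanceAs (Etale (pullback.snd φ m))
  have hc : p1 ≫ φ = p2 ≫ m := pullback.condition
  have hover : p1 ≫ W.ι ≫ f = p2 ≫ 𝔸(ι; S) ↘ S := by
    rw [← hφ, ← Category.assoc, hc, Category.assoc, chartMap_over]
  have hv : ∀ γ, p1.appTop (v γ) = p2.appTop
      (Function.update (AffineSpace.coord S) α (AffineSpace.coord S α * AffineSpace.coord S β) γ) := fun γ => by
    rw [← hφv, ← chartMap_coord]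
    change (p1 ≫ φ).appTop (AffineSpace.coord S γ) = (p2 ≫ m).appTop (AffineSpace.coord S γ)
    rw [hc]
  have hvβ : p1.appTop (v β) = p2.appTop (AffineSpace.coord S β) := by
    rw [hv, Function.update_of_ne hne.symm]
  have hvα : p1.appTop (v α) = p2.appTop (AffineSpace.coord S α) * p2.appTop (AffineSpace.coord S β) := by
    rw [hv, Function.update_self, map_mul]
  have hreg : IsReg ⊤ (p2.appTop (AffineSpace.coord S β)) := (isCoord_top p2).isReg β
  let q : B ⟶ P := p1 ≫ W.ι
  have hq : BlowUp.IsEffCartierIdeal (I.comap q) := by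
    intro z
    obtain ⟨U, V, -, hzV, -, hUW, e⟩ := exists_affine_le q z ⊤ trivial W (p1 z).2
    refine ⟨V, hzV, resO B le_top (p2.appTop (AffineSpace.coord S β)), mem_nonZeroDivisors_of_isReg hreg V.1, ?_⟩
    rw [ideal_comap I q U V e, hI U hUW, Ideal.map_span, Set.image_pair]
    have h1 : ∀ γ, (q.appLE U V e).hom (LogNCD.sectOn W hUW (v γ)) = resO B le_top (p1.appTop (v γ)) :=
      fun γ => appLE_sectOn p1 hUW e (v γ)
    rw [h1, h1, hvβ, hvα, map_mul]
    apply le_antisymm
    · rw [Ideal.span_le]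
      rintro _ (rfl | rfl)
      · exact Ideal.mul_mem_left _ _ (Ideal.mem_span_singleton_self _)
      · exact Ideal.mem_span_singleton_self _
    · rw [Ideal.span_le]
      rintro _ rfl
      exact Ideal.subset_span (Or.inr rfl)
  obtain ⟨h, hh, -⟩ := hb.2 B q hq
  let w : ι → Γ(U1, ⊤) := Function.update (fun γ => p.appTop (v γ)) α t
  let ψ := AffineSpace.homOfVector (U1.ι ≫ b ≫ f) w
  have hψ : ψ ≫ 𝔸(ι; S) ↘ S = U1.ι ≫ b ≫ f := AffineSpace.homOfVector_over _ _
  have hψv : ∀ γ, ψ.appTop (AffineSpace.coord S γ) = w γ := fun γ =>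
    AffineSpace.homOfVector_appTop_coord _ _ _
  have hwβ : w β = p.appTop (v β) := Function.update_of_ne hne.symm _ _
  have hwα : w α = t := Function.update_self _ _ _
  have hcond : p ≫ φ = ψ ≫ m := by
    apply AffineSpace.hom_ext
    · rw [Category.assoc, Category.assoc, chartMap_over, hφ, hψ, ← Category.assoc, hp, Category.assoc]
    · intro γ
      change p.appTop (φ.appTop (AffineSpace.coord S γ)) = ψ.appTop (m.appTop (AffineSpace.coord S γ))
      rw [hφv, chartMap_coord]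
      by_cases hγ : γ = α
      · subst hγ
        rw [Function.update_self, map_mul, hψv, hψv, hwβ, hwα, ht]
      · rw [Function.update_of_ne hγ, hψv]
        change _ = Function.update (fun γ => p.appTop (v γ)) α t γ
        rw [Function.update_of_ne hγ]
  let j : U1.toScheme ⟶ B := pullback.lift p ψ hcond
  have hj1 : j ≫ p1 = p := pullback.lift_fst _ _ _
  have hj2 : j ≫ p2 = ψ := pullback.lift_snd _ _ _
  have hjh : j ≫ h = U1.ι := by
    have h1 : BlowUp.IsEffCartierIdeal (I.comap (U1.ι ≫ b)) := by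
      rw [Scheme.IdealSheafData.comap_comp]
      exact isEff_comap_flat hb.1 U1.ι
    refine (hb.2 _ _ h1).unique ?_ rfl
    rw [Category.assoc, hh]
    change j ≫ p1 ≫ W.ι = _
    rw [reassoc_of% hj1, hp]
  let O : B.Opens := h ⁻¹ᵁ U1
  let k : O.toScheme ⟶ U1.toScheme := h ∣_ U1
  have hk : k ≫ U1.ι = O.ι ≫ h := morphismRestrict_ι h U1
  have hkj : k ≫ j = O.ι := by
    apply pullback.hom_ext
    · change (k ≫ j) ≫ p1 = O.ι ≫ p1
      rw [Category.assoc, hj1, ← cancel_mono W.ι, Category.assoc, Category.assoc, hp, reassoc_of% hk, hh]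
    · change (k ≫ j) ≫ p2 = O.ι ≫ p2
      rw [Category.assoc, hj2]
      apply AffineSpace.hom_ext
      · rw [Category.assoc, Category.assoc, hψ, ← hover, reassoc_of% hk, reassoc_of% hh]
        simp only [q, Category.assoc]
      · intro γ
        have h2 : O.ι ≫ p1 = k ≫ p := by
          rw [← cancel_mono W.ι, Category.assoc, Category.assoc, hp, reassoc_of% hk, hh]
        have h3 : ∀ γ, O.ι.appTop (p1.appTop (v γ)) = k.appTop (p.appTop (v γ)) := fun γ =>
          congr(($h2).appTop (v γ))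
        change k.appTop (ψ.appTop (AffineSpace.coord S γ)) = O.ι.appTop (p2.appTop (AffineSpace.coord S γ))
        rw [hψv]
        by_cases hγ : γ = α
        · subst hγ
          rw [hwα]
          have h7 := congr(k.appTop $ht)
          rw [map_mul, ← h3, ← h3, hvα, hvβ, map_mul] at h7
          exact (mul_cancel_right_mem_nonZeroDivisors (ι_appTop_mem_nonZeroDivisors hreg O)).mp h7
        · have h4 : w γ = p.appTop (v γ) := Function.update_of_ne hγ _ _
          rw [h4, ← h3, hv, Function.update_of_ne hγ]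
  let j' : U1.toScheme ⟶ O.toScheme := IsOpenImmersion.lift O.ι j (by
    rintro _ ⟨x, rfl⟩
    rw [Scheme.Opens.range_ι]
    change h (j x) ∈ U1
    rw [← Scheme.Hom.comp_apply, hjh]
    exact x.2)
  have hj' : j' ≫ O.ι = j := IsOpenImmersion.lift_fac _ _ _
  have h5 : j' ≫ k = 𝟙 _ := by
    rw [← cancel_mono U1.ι, Category.assoc, hk, reassoc_of% hj', hjh, Category.id_comp]
  have h6 : k ≫ j' = 𝟙 _ := by
    rw [← cancel_mono O.ι, Category.assoc, hj', hkj, Category.id_comp]
  have : IsIso j' := ⟨k, h5, h6⟩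
  change Etale ψ
  rw [← hj2, ← hj']
  infer_instance

end Key

end K913.BlowEt
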