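import Groth.Agent.Resolve.K913.BlowNcd

/-!
# The blow up of the intersection of two members of a normal crossing family is smooth
-/

set_option autoImplicit false

universe u

open CategoryTheory CategoryTheory.Limits AlgebraicGeometry Opposite TopologicalSpace
open Groth.Agent.Sga67.Sec K922.Coord
open Groth.Agent.Divis.IdealComap Groth.Agent.Divis.EffCartier

namespace K913.BlowSm

open LogNCD K913.NcdChart K913.BlowEt K913.BlowNcd

variable {P P1 S : Scheme.{u}} {r : ℕ} {f : P ⟶ S} {D : Fin r → P.IdealSheafData} {a c : Fin r} {b : P1 ⟶ P}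

theorem smooth_half (hac : a ≠ c) (hb : BlowUp.IsBlowUp b (D a ⊔ D c)) {W : P.Opens} (k : Coords f D W)
    {α β : Fin k.n} (hα : k.s a = some α) (hβ : k.s c = some β) (U1 : P1.affineOpens) (V0 : P.affineOpens)
    (hV : V0.1 ≤ W) (e : U1.1 ≤ b ⁻¹ᵁ V0.1) (t : Γ(P1, U1.1))
    (ht : t * (b.appLE V0.1 U1.1 e).hom (sectOn W hV (k.v (ULift.up β))) =
      (b.appLE V0.1 U1.1 e).hom (sectOn W hV (k.v (ULift.up α)))) : Smooth (U1.1.ι ≫ b ≫ f) := by
  have hαβ : α ≠ β := by
    rintro rfl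
    exact hac (k.inj a c α hα hβ)
  have hle : U1.1 ≤ b ⁻¹ᵁ W := e.trans (b.preimage_mono hV)
  let p : U1.1.toScheme ⟶ W.toScheme := P1.homOfLE hle ≫ (b ∣_ W)
  have hp : p ≫ W.ι = U1.1.ι ≫ b := by
    simp only [p, Category.assoc, morphismRestrict_ι, Scheme.homOfLE_ι_assoc]
  have key : ∀ (z : Γ(W, ⊤)),
      sectOn U1.1 le_rfl (p.appTop z) = (b.appLE V0.1 U1.1 e).hom (sectOn W hV z) := by
    intro z
    have h1 := K911.Ncd.appLE_sectOn b W hV e z
    have h2 := sectOn_homOfLE hle le_rfl ((b ∣_ W).appTop z)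
    exact h2.trans h1.symm
  let t' : Γ(U1.1, ⊤) := U1.1.topIso.inv t
  have ht1 : sectOn U1.1 le_rfl t' = t := by
    rw [sectOn_apply]
    have h3 : U1.1.topIso.hom t' = t := congr($(U1.1.topIso.inv_hom_id) t)
    change P1.presheaf.map (homOfLE le_rfl).op (U1.1.topIso.hom t') = _
    rw [h3]
    exact resO_self _ _
  have hinj : Function.Injective (sectOn U1.1 le_rfl : Γ(U1.1, ⊤) → Γ(P1, U1.1)) := by
    intro x y hxy
    rw [sectOn_apply, sectOn_apply] at hxy
    have h3 : resO P1 le_rfl (U1.1.topIso.hom x) = resO P1 le_rfl (U1.1.topIso.hom y) := hxy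
    rw [resO_self, resO_self] at h3
    exact (ConcreteCategory.bijective_of_isIso U1.1.topIso.hom).1 h3
  have hmul : ∀ x y : Γ(U1.1, ⊤), sectOn U1.1 le_rfl (x * y) = sectOn U1.1 le_rfl x * sectOn U1.1 le_rfl y := by
    intro x y
    simp only [sectOn_apply, map_mul]
  have ht' : t' * p.appTop (k.v (ULift.up β)) = p.appTop (k.v (ULift.up α)) := by
    apply hinj
    rw [hmul, key, key, ht1]
    exact ht
  have hI : ∀ (U : P.affineOpens) (h : U.1 ≤ W), (D a ⊔ D c).ideal U =
      Ideal.span {sectOn W h (k.v (ULift.up α)), sectOn W h (k.v (ULift.up β))} := by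
    intro U h
    rw [Scheme.IdealSheafData.ideal_sup, Pi.sup_apply, k.ideal_some a α hα U h, k.ideal_some c β hβ U h,
      ← Ideal.span_union]
    rfl
  have hne : (ULift.up α : ULift.{u} (Fin k.n)) ≠ ULift.up β := fun h => hαβ (congrArg ULift.down h)
  have het := etale_of_isBlowUp f k.v (ULift.up α) (ULift.up β) k.etale hne hI hb U1.1 p hp t' ht'
  rw [← AffineSpace.homOfVector_over (U1.1.ι ≫ b ≫ f)
    (Function.update (fun γ => p.appTop (k.v γ)) (ULift.up α) t')]
  have : Smooth (𝔸(ULift.{u} (Fin k.n); S) ↘ S) := Groth.Agent.Pi1.H413.SecChart.smooth_affineSpace _ S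
  infer_instance

/-- The blow up of the intersection of two members of a normal crossing family of a smooth scheme is smooth. -/
theorem main {P P1 S : Scheme.{u}} (f : P ⟶ S) [Smooth f] {r : ℕ} (D : Fin r → P.IdealSheafData)
    (h : LogNCD.IsNCD D f) (a c : Fin r) (hac : a ≠ c) (b : P1 ⟶ P) (hb : BlowUp.IsBlowUp b (D a ⊔ D c)) :
    Smooth (b ≫ f) := by
  have key : ∀ y : P1, ∃ W : P1.Opens, y ∈ W ∧ Smooth (W.ι ≫ b ≫ f) := by
    intro y
    by_cases h2 : b y ∈ (D a ⊔ D c).support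
    · rw [Scheme.IdealSheafData.support_sup] at h2
      obtain ⟨W, hW, ⟨k⟩⟩ := chartAt_of_isNCD h ⟨⟨a, h2.1⟩⟩
      obtain ⟨α, hα⟩ := exists_index k hW h2.1
      obtain ⟨β, hβ⟩ := exists_index k hW h2.2
      obtain ⟨U, hyU, hpr⟩ := hb.1 y
      obtain ⟨V0, V1, hyV0, hyV1, hV1U, hV0W, e⟩ := exists_affine_le b y U.1 hyU W hW
      have hpr1 : PrincAt ((D a ⊔ D c).comap b) V1 := PrincAt.mono (U := U) hpr hV1U
      have hN : ((D a ⊔ D c).comap b).ideal V1 =
          Ideal.span {(b.appLE V0.1 V1.1 e).hom (sectOn W hV0W (k.v (ULift.up α))),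
            (b.appLE V0.1 V1.1 e).hom (sectOn W hV0W (k.v (ULift.up β)))} := by
        rw [ideal_comap _ b V0 V1 e, Scheme.IdealSheafData.ideal_sup, Pi.sup_apply, k.ideal_some a α hα V0 hV0W,
          k.ideal_some c β hβ V0 hV0W, Ideal.map_sup, Ideal.map_span, Ideal.map_span, Set.image_singleton,
          Set.image_singleton, ← Ideal.span_union]
        rfl
      have hres : ∀ (U' : P1.affineOpens) (h : U'.1 ≤ V1.1) (z : Γ(P, V0.1)),
          resO P1 h ((b.appLE V0.1 V1.1 e).hom z) = (b.appLE V0.1 U'.1 (h.trans e)).hom z := by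
        intro U' h z
        exact congr($(Scheme.Hom.appLE_map b e (homOfLE h).op).hom z)
      obtain ⟨U', h, hyU', ⟨t, ht⟩ | ⟨t, ht⟩⟩ := exists_ratio hpr1 hN hyV1
      · rw [hres, hres] at ht
        exact ⟨U'.1, hyU', smooth_half hac hb k hα hβ U' V0 hV0W (h.trans e) t ht⟩
      · rw [hres, hres] at ht
        rw [sup_comm] at hb
        exact ⟨U'.1, hyU', smooth_half hac.symm hb k hβ hα U' V0 hV0W (h.trans e) t ht⟩
    · have hiso : IsIso (b ∣_ (D a ⊔ D c).support.compl) :=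
        Groth.Agent.Divis.BlowUpFormal.isIso_morphismRestrict_compl_support hb _ disjoint_compl_left
      refine ⟨b ⁻¹ᵁ (D a ⊔ D c).support.compl, h2, ?_⟩
      rw [← Category.assoc, ← morphismRestrict_ι]
      infer_instance
  choose W hyW hW using key
  rw [IsZariskiLocalAtSource.iff_of_iSup_eq_top (P := @Smooth) (U := W)
    (top_le_iff.mp fun y _ => Opens.mem_iSup.mpr ⟨y, hyW y⟩)]
  exact hW

end K913.BlowSm
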