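import Groth.Agent.Resolve.K913.BlowEt
import Groth.Agent.Divis.BlowUpFormal

/-!
# Normal crossings at a point

`ChartAt f D x`: there are étale coordinates near `x` such that every `D i` is cut out by a coordinate or is empty, distinct
indices having distinct coordinates.

* `isNCD_iff` : `LogNCD.IsNCD D f` iff `ChartAt f D x` for every `x` on some `D i`;
* `ChartAt.congr` : a family which is locally a subfamily;
* `ChartAt.comap` : pull back along a morphism which is étale over a neighbourhood.
-/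

set_option autoImplicit false

universe u

open CategoryTheory CategoryTheory.Limits AlgebraicGeometry Opposite TopologicalSpace
open Groth.Agent.Sga67.Sec K922.Coord
open Groth.Agent.Divis.IdealComap Groth.Agent.Divis.EffCartier Groth.Agent.Divis.BlowChart2
open Groth.Agent.Pi1.H403.RelSNCBase

namespace K913.NcdChart

open LogNCD

variable {X X' S : Scheme.{u}} {r r' : ℕ}

/-- Coordinates of the family `D` on the open `W`. -/
structure Coords (f : X ⟶ S) (D : Fin r → X.IdealSheafData) (W : X.Opens) where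
  n : ℕ
  v : ULift.{u} (Fin n) → Γ(W, ⊤)
  s : Fin r → Option (Fin n)
  inj : ∀ i j k, s i = some k → s j = some k → i = j
  etale : Etale (AffineSpace.homOfVector (W.ι ≫ f) v)
  ideal_none : ∀ i, s i = none → ∀ U : X.affineOpens, U.1 ≤ W → (D i).ideal U = ⊤
  ideal_some : ∀ i k, s i = some k → ∀ (U : X.affineOpens) (h : U.1 ≤ W),
    (D i).ideal U = Ideal.span {sectOn W h (v (ULift.up k))}

/-- There are coordinates of the family `D` near `x`. -/
def ChartAt (f : X ⟶ S) (D : Fin r → X.IdealSheafData) (x : X) : Prop :=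
  ∃ W : X.Opens, x ∈ W ∧ Nonempty (Coords f D W)

theorem sectOn_homOfLE {V W : X.Opens} (hle : V ≤ W) {U : X.Opens} (h : U ≤ V) (s : Γ(W, ⊤)) :
    sectOn V h ((X.homOfLE hle).appTop s) = sectOn W (h.trans hle) s := by
  have h8 : V.topIso.hom ((X.homOfLE hle).appTop s) = X.presheaf.map (homOfLE hle).op (W.topIso.hom s) :=
    congr($(Groth.Agent.Pi1.H411.Chart.homOfLE_appTop_topIso V W hle).hom s)
  rw [K911.Ncd.sectOn_eq, h8, K911.Ncd.sectOn_eq, ← homOfLE_comp h hle, op_comp, Functor.map_comp]
  rfl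

/-- Restriction of coordinates. -/
noncomputable def Coords.restrict {f : X ⟶ S} {D : Fin r → X.IdealSheafData} {W : X.Opens} (c : Coords f D W)
    {V : X.Opens} (h : V ≤ W) : Coords f D V where
  n := c.n
  v i := (X.homOfLE h).appTop (c.v i)
  s := c.s
  inj := c.inj
  etale := by
    have h3 := AffineSpace.comp_homOfVector c.v (X.homOfLE h) (W.ι ≫ f)
    have h4 : X.homOfLE h ≫ W.ι ≫ f = V.ι ≫ f := by
      rw [← Category.assoc, Scheme.homOfLE_ι]
    rw [h4] at h3
    have h5 : (fun i => (X.homOfLE h).appTop (c.v i)) = (X.homOfLE h).appTop ∘ c.v := rfl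
    rw [h5, ← h3]
    have := c.etale
    infer_instance
  ideal_none i hi U hU := c.ideal_none i hi U (hU.trans h)
  ideal_some i k hi U hU := by rw [c.ideal_some i k hi U (hU.trans h), sectOn_homOfLE]

/-- A family which is locally a subfamily. -/
noncomputable def Coords.reindex {f : X ⟶ S} {D : Fin r → X.IdealSheafData} {W : X.Opens} (c : Coords f D W)
    {D' : Fin r' → X.IdealSheafData} (σ : Fin r' → Option (Fin r))
    (hσ : ∀ i j k, σ i = some k → σ j = some k → i = j)
    (h0 : ∀ i, σ i = none → ∀ U : X.affineOpens, U.1 ≤ W → (D' i).ideal U = ⊤)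
    (h1 : ∀ i k, σ i = some k → ∀ U : X.affineOpens, U.1 ≤ W → (D' i).ideal U = (D k).ideal U) :
    Coords f D' W where
  n := c.n
  v := c.v
  s i := (σ i).bind c.s
  inj i j k hi hj := by
    obtain ⟨i', hi', hi''⟩ := Option.bind_eq_some_iff.mp hi
    obtain ⟨j', hj', hj''⟩ := Option.bind_eq_some_iff.mp hj
    obtain rfl := c.inj i' j' k hi'' hj''
    exact hσ i j i' hi' hj'
  etale := c.etale
  ideal_none i hi U hU := by
    rcases h : σ i with _ | k
    · exact h0 i h U hU
    · rw [h1 i k h U hU]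
      rw [h, Option.bind_some] at hi
      exact c.ideal_none k hi U hU
  ideal_some i k hi U hU := by
    obtain ⟨i', hi', hi''⟩ := Option.bind_eq_some_iff.mp hi
    rw [h1 i i' hi' U hU, c.ideal_some i' k hi'' U hU]

theorem ChartAt.exists_le {f : X ⟶ S} {D : Fin r → X.IdealSheafData} {x : X} (h : ChartAt f D x) (O : X.Opens)
    (hx : x ∈ O) : ∃ W : X.Opens, x ∈ W ∧ W ≤ O ∧ Nonempty (Coords f D W) := by
  obtain ⟨W, hxW, ⟨c⟩⟩ := h
  exact ⟨W ⊓ O, ⟨hxW, hx⟩, inf_le_right, ⟨c.restrict inf_le_left⟩⟩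

/-- A normal crossing family has coordinates near the points of its members. -/
theorem chartAt_of_isNCD {f : X ⟶ S} {D : Fin r → X.IdealSheafData} (hD : IsNCD D f) {x : X}
    (hx : Nonempty (Through D x)) : ChartAt f D x := by
  classical
  obtain ⟨W, hxW, n, v, e, he, het, hv, hv'⟩ := hD x hx
  refine ⟨W, hxW, ⟨⟨n, v, fun i => if h : x ∈ (D i).support then some (e ⟨i, h⟩) else none, ?_, het, ?_, ?_⟩⟩⟩
  · intro i j k hi hj
    by_cases hi' : x ∈ (D i).support <;> by_cases hj' : x ∈ (D j).support <;>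
      simp only [hi', hj', dite_true, dite_false, Option.some.injEq, reduceCtorEq] at hi hj
    have := he (hi.trans hj.symm)
    exact congrArg Subtype.val this
  · intro i hi U hU
    by_cases hi' : x ∈ (D i).support <;>
      simp only [hi', dite_true, dite_false, reduceCtorEq] at hi
    exact hv' i hi' U hU
  · intro i k hi U hU
    by_cases hi' : x ∈ (D i).support <;>
      simp only [hi', dite_true, dite_false, Option.some.injEq, reduceCtorEq] at hi
    rw [hv ⟨i, hi'⟩ U hU, hi]

/-- Coordinates near all points of the members give a normal crossing family. -/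
theorem isNCD_of_chartAt {f : X ⟶ S} {D : Fin r → X.IdealSheafData}
    (H : ∀ x : X, Nonempty (Through D x) → ChartAt f D x) : IsNCD D f := by
  classical
  intro x hx
  let Z : Set X := ⋃ i : {i : Fin r // x ∉ (D i).support}, ((D i.1).support : Set X)
  have hZ : IsClosed Z := isClosed_iUnion_of_finite fun i => (D i.1).support.isClosed
  let O : X.Opens := ⟨Zᶜ, hZ.isOpen_compl⟩
  have hxO : x ∈ O := fun h => by
    obtain ⟨i, hi⟩ := Set.mem_iUnion.mp h
    exact i.2 hi
  obtain ⟨W, hxW, hWO, ⟨c⟩⟩ := (H x hx).exists_le O hxO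
  obtain ⟨U₀, hU₀, hxU₀, hU₀W⟩ := exists_isAffineOpen_mem_and_subset (U := W) (x := x) hxW
  have key : ∀ i : Through D x, ∃ k, c.s i.1 = some k := by
    intro i
    rcases h : c.s i.1 with _ | k
    · exfalso
      exact K922.Chart.notMem_support_of_ideal_eq_top (D i.1) ⟨U₀, hU₀⟩ (c.ideal_none i.1 h ⟨U₀, hU₀⟩ hU₀W) x hxU₀ i.2
    · exact ⟨k, rfl⟩
  choose e he using key
  refine ⟨W, hxW, c.n, c.v, e, ?_, c.etale, ?_, ?_⟩
  · intro i j hij
    exact Subtype.ext (c.inj i.1 j.1 (e i) (he i) (by rw [he j, hij]))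
  · intro i U hU
    exact c.ideal_some i.1 (e i) (he i) U hU
  · intro i hi U hU
    refine K911.Ncd.ideal_eq_top_of_disjoint (D i) U fun z hz hzi => ?_
    exact hWO (hU hz) (Set.mem_iUnion.mpr ⟨⟨i, hi⟩, hzi⟩)

/-- Coordinates pulled back along a morphism which is étale over the open set of the coordinates. -/
noncomputable def Coords.comap {f : X ⟶ S} {D : Fin r → X.IdealSheafData} {W : X.Opens} (c : Coords f D W)
    (g : X' ⟶ X) [Etale (g ∣_ W)] : Coords (g ≫ f) (fun i => (D i).comap g) (g ⁻¹ᵁ W) where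
  n := c.n
  v i := (g ∣_ W).appTop (c.v i)
  s := c.s
  inj := c.inj
  etale := by
    have h1 := AffineSpace.comp_homOfVector c.v (g ∣_ W) (W.ι ≫ f)
    have h2 : (g ∣_ W) ≫ W.ι ≫ f = (g ⁻¹ᵁ W).ι ≫ g ≫ f := by
      rw [← Category.assoc, morphismRestrict_ι, Category.assoc]
    rw [h2] at h1
    have h3 : (fun i => (g ∣_ W).appTop (c.v i)) = (g ∣_ W).appTop ∘ c.v := rfl
    rw [h3, ← h1]
    have := c.etale
    infer_instance
  ideal_none i hi U' hU' := by
    rw [← Ideal.span_singleton_one]
    refine ideal_eq_span_of_local U' _ fun x hx => ?_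
    obtain ⟨U, V', hfx, hxV', hV', hU, eV⟩ := exists_affine_le g x U'.1 hx W (hU' hx)
    refine ⟨V', hV', hxV', ?_⟩
    rw [ideal_comap _ g U V' eV, c.ideal_none i hi U hU, Ideal.map_top, map_one, Ideal.span_singleton_one]
  ideal_some i k hi U' hU' := by
    refine ideal_eq_span_of_local U' _ fun x hx => ?_
    obtain ⟨U, V', hfx, hxV', hV', hU, eV⟩ := exists_affine_le g x U'.1 hx W (hU' hx)
    refine ⟨V', hV', hxV', ?_⟩
    rw [ideal_comap _ g U V' eV, c.ideal_some i k hi U hU, Ideal.map_span, Set.image_singleton,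
      K911.Ncd.sectOn_res]
    congr 2
    exact K911.Ncd.appLE_sectOn g W hU eV _

end K913.NcdChart
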