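import Groth.Agent.Resolve.K913.Part2Twist
import Groth.Agent.Flat2E.SmoothInf
import Groth.Agent.Variety.K427.GenSmooth
import Groth.Agent.S0565
import Groth.Agent.S14351

/-!
# Node C of the resolution project: smoothness of a descended chart at the center

`K913.Part2Loc.isSmoothAt`: `P` of finite type over a field `K` of characteristic zero, `P → S` flat with `S` local
Noetherian, `σ : Q → P` and `τ : Q → S` with `(σ m) S = (τ m) S`, `K[Q] → S` (by `τ`) flat with regular fibre at the
origin. Then `K[Q] → P` (by `σ`) is smooth at the center of `S`.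
-/

set_option autoImplicit false
universe u

open K84.Iface K891.Cut TensorProduct Function IsLocalRing

namespace K913.Part2Loc

/-- the unit homomorphism relating two families of generators of the same principal ideals -/
theorem exists_units {Q : Type} [AddCommMonoid Q] {S : Type u} [CommRing S] (τ τ' : Multiplicative Q →* S)
    (hτ : ∀ m, τ m ∈ nonZeroDivisors S) (h : ∀ m, Ideal.span {τ' m} = Ideal.span {τ m}) :
    ∃ w : Multiplicative Q →* Sˣ, ∀ m, τ' m = w m * τ m := by
  have h1 : ∀ m, ∃ x : Sˣ, τ' m = x * τ m := by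
    intro m
    obtain ⟨x, hx⟩ := Ideal.mem_span_singleton.mp ((h m).le (Ideal.mem_span_singleton_self (τ' m)))
    obtain ⟨y, hy⟩ := Ideal.mem_span_singleton.mp ((h m).ge (Ideal.mem_span_singleton_self (τ m)))
    have hxy : x * y = 1 := by
      have h2 : τ m * (x * y - 1) = 0 := by
        rw [mul_sub, ← mul_assoc, ← hx, ← hy, mul_one, sub_self]
      exact sub_eq_zero.mp ((mem_nonZeroDivisors_iff.mp (hτ m)).1 _ h2)
    exact ⟨⟨x, y, hxy, by rw [mul_comm, hxy]⟩, by rw [hx, mul_comm]⟩
  choose x hx using h1
  have hcan : ∀ (m) (a b : Sˣ), (a : S) * τ m = b * τ m → a = b := by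
    intro m a b hab
    ext
    have h2 : τ m * (a - b) = 0 := by rw [mul_comm, sub_mul, hab, sub_self]
    exact sub_eq_zero.mp ((mem_nonZeroDivisors_iff.mp (hτ m)).1 _ h2)
  refine ⟨{ toFun := x
            map_one' := hcan 1 _ _ ?_
            map_mul' := fun a b => hcan (a * b) _ _ ?_ }, hx⟩
  · rw [← hx, map_one, map_one, Units.val_one, mul_one]
  · rw [← hx, map_mul, map_mul, hx a, hx b, Units.val_mul]
    ring

/-- descent of regularity along a flat local homomorphism, for quotients -/
theorem regular_quot {A S : Type u} [CommRing A] [IsLocalRing A] [IsNoetherianRing A] [CommRing S] [IsLocalRing S]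
    [Algebra A S] [IsLocalHom (algebraMap A S)] [Module.Flat A S] (I : Ideal A) (hI : I ≠ ⊤)
    (h : IsRegularLocalRing (S ⧸ I.map (algebraMap A S))) : IsRegularLocalRing (A ⧸ I) := by
  have : Nontrivial (A ⧸ I) := Ideal.Quotient.nontrivial_iff.mpr hI
  have : IsLocalRing (A ⧸ I) := .of_surjective' _ Ideal.Quotient.mk_surjective
  have hfl : Module.Flat (A ⧸ I) (S ⧸ I.map (algebraMap A S)) :=
    Module.Flat.of_linearEquiv (Algebra.TensorProduct.quotIdealMapEquivQuotTensor S I).toLinearEquiv
  have hmk : IsLocalHom (Ideal.Quotient.mk (I.map (algebraMap A S))) :=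
    IsLocalHom.of_surjective _ Ideal.Quotient.mk_surjective
  have hloc : IsLocalHom (algebraMap (A ⧸ I) (S ⧸ I.map (algebraMap A S))) := by
    constructor
    intro x hx
    obtain ⟨a, rfl⟩ := Ideal.Quotient.mk_surjective x
    have h1 : IsUnit (Ideal.Quotient.mk (I.map (algebraMap A S)) (algebraMap A S a)) := hx
    have h2 : IsUnit (algebraMap A S a) := hmk.map_nonunit _ h1
    exact (IsLocalHom.map_nonunit (f := algebraMap A S) a h2).map _
  exact Groth.Agent.S0565.result (A ⧸ I) (S ⧸ I.map (algebraMap A S))

variable {K : Type u} [Field K] {Q : Type} [AddCommMonoid Q]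

theorem lift_single (K : Type u) [Field K] {S : Type u} [CommRing S] [Algebra K S] (τ : Multiplicative Q →* S)
    (m : Q) (c : K) :
    lift K τ (AddMonoidAlgebra.single m c) = algebraMap K S c * τ (Multiplicative.ofAdd m) := by
  change AddMonoidAlgebra.lift K S Q τ (AddMonoidAlgebra.single m c) = _
  rw [AddMonoidAlgebra.lift_single, Algebra.smul_def]

theorem lift_comp {P S : Type u} [CommRing P] [CommRing S] [Algebra K P] [Algebra K S] [Algebra P S]
    [IsScalarTower K P S] (σ : Multiplicative Q →* P) :
    lift K ((algebraMap P S : P →* S).comp σ) = (algebraMap P S).comp (lift K σ) := by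
  refine AddMonoidAlgebra.ringHom_ext (fun c => ?_) (fun m => ?_)
  · rw [RingHom.comp_apply, lift_single, lift_single, map_mul, ← IsScalarTower.algebraMap_apply]
    rfl
  · rw [RingHom.comp_apply, lift_single, lift_single, map_mul, ← IsScalarTower.algebraMap_apply]
    rfl

theorem isSmoothAt [CharZero K] [IsNoetherianRing (AddMonoidAlgebra K Q)] [Algebra.FiniteType K (AddMonoidAlgebra K Q)]
    (hs : ∀ a b : Q, a + b = 0 → a = 0)
    {P S : Type u} [CommRing P] [Algebra K P] [Algebra.FiniteType K P]
    [CommRing S] [IsLocalRing S] [IsNoetherianRing S] [Algebra P S] [Algebra K S] [IsScalarTower K P S]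
    [Module.Flat P S] (σ : Multiplicative Q →* P) (τ : Multiplicative Q →* S)
    (h : ∀ m, Ideal.span {algebraMap P S (σ m)} = Ideal.span {τ m})
    (hτ0 : ∀ m, τ m ∈ nonZeroDivisors S)
    (hτm : ∀ m : Q, m ≠ 0 → τ (Multiplicative.ofAdd m) ∈ maximalIdeal S)
    (hflat : (lift K τ).Flat)
    (hreg : IsRegularLocalRing (S ⧸ Ideal.span (Set.range fun m : {m : Q // m ≠ 0} =>
      τ (Multiplicative.ofAdd m.1)))) (q : Ideal P) [q.IsPrime] (hq : (maximalIdeal S).comap (algebraMap P S) = q) :
    letI := (lift K σ).toAlgebra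
    Algebra.IsSmoothAt (AddMonoidAlgebra K Q) q := by
  let : Algebra (AddMonoidAlgebra K Q) P := (lift K σ).toAlgebra
  change Algebra.IsSmoothAt (AddMonoidAlgebra K Q) q
  have hKRP : IsScalarTower K (AddMonoidAlgebra K Q) P := by
    refine IsScalarTower.of_algebraMap_eq fun c => ?_
    exact ((AddMonoidAlgebra.lift K P Q σ).commutes c).symm
  have hft : Algebra.FiniteType (AddMonoidAlgebra K Q) P :=
    Algebra.FiniteType.of_restrictScalars_finiteType K (AddMonoidAlgebra K Q) P
  have hfp : Algebra.FinitePresentation (AddMonoidAlgebra K Q) P :=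
    Algebra.FinitePresentation.of_finiteType.mp hft
  have hnP : IsNoetherianRing P := Algebra.FiniteType.isNoetherianRing K P
  -- flatness of `K[Q] → S`
  obtain ⟨w, hw⟩ := exists_units τ ((algebraMap P S : P →* S).comp σ) hτ0 h
  have hjac : (⊥ : Ideal S).jacobson = maximalIdeal S := IsLocalRing.jacobson_eq_maximalIdeal ⊥ bot_ne_top
  have hfl : (lift K ((algebraMap P S : P →* S).comp σ)).Flat :=
    K913.Part2Twist.flat hs τ _ w hw (fun m hm => by rw [hjac]; exact hτm m hm) hflat
  rw [lift_comp] at hfl
  let : Algebra (AddMonoidAlgebra K Q) S := ((algebraMap P S).comp (lift K σ)).toAlgebra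
  have htow : IsScalarTower (AddMonoidAlgebra K Q) P S := IsScalarTower.of_algebraMap_eq fun _ => rfl
  have hflS : Module.Flat (AddMonoidAlgebra K Q) S := hfl
  -- the local ring `A` of `P`
  let A := Localization.AtPrime q
  have hunit : ∀ y : q.primeCompl, IsUnit (algebraMap P S y) := by
    intro y
    by_contra hy
    have hy' : (y : P) ∈ (maximalIdeal S).comap (algebraMap P S) := hy
    exact y.2 (hq.le hy')
  let lam : A →+* S := IsLocalization.lift (M := q.primeCompl) (g := algebraMap P S) hunit
  let : Algebra A S := lam.toAlgebra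
  have hlam : ∀ y, algebraMap A S (algebraMap P A y) = algebraMap P S y := fun y => IsLocalization.lift_eq _ y
  have htow2 : IsScalarTower P A S := IsScalarTower.of_algebraMap_eq fun y => (hlam y).symm
  have htow3 : IsScalarTower (AddMonoidAlgebra K Q) A S := by
    refine IsScalarTower.of_algebraMap_eq fun y => ?_
    rw [IsScalarTower.algebraMap_apply (AddMonoidAlgebra K Q) P A, hlam]
    rfl
  have hnA : IsNoetherianRing A := IsLocalization.isNoetherianRing q.primeCompl _ hnP
  have hfA : Module.Flat A S := (Module.flat_iff_of_isLocalization A q.primeCompl S).mpr inferInstance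
  have hloc : IsLocalHom (algebraMap A S) := by
    constructor
    intro x hx
    obtain ⟨⟨y, s⟩, rfl⟩ := IsLocalization.mk'_surjective q.primeCompl x
    have h1 : IsUnit (algebraMap A S (algebraMap P A y)) := by
      have h2 : algebraMap P A y = IsLocalization.mk' A y s * algebraMap P A s := by
        rw [IsLocalization.mk'_spec]
      rw [h2, map_mul]
      exact IsUnit.mul hx ((IsLocalization.map_units A s).map _)
    rw [hlam] at h1
    have h3 : y ∉ q := by
      intro hy
      rw [← hq, Ideal.mem_comap] at hy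
      exact hy h1
    exact IsLocalization.AtPrime.isUnit_mk'_iff A q y s |>.mpr h3
  have hff : Module.FaithfullyFlat A S := Module.FaithfullyFlat.of_flat_of_isLocalHom
  have hfRA : Module.Flat (AddMonoidAlgebra K Q) A := Groth.Agent.S14351.flat_of_comp (AddMonoidAlgebra K Q) A S
  -- the center is the origin
  let p : Ideal (AddMonoidAlgebra K Q) := K913.Part2Twist.orig K hs
  have hpmax : p.IsMaximal := K913.Part2Twist.isMaximal K hs
  have hpS : p.map (algebraMap (AddMonoidAlgebra K Q) S) = Ideal.span (Set.range fun m : {m : Q // m ≠ 0} =>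
      τ (Multiplicative.ofAdd m.1)) := by
    change (K913.Part2Twist.orig K hs).map _ = _
    rw [K913.Part2Twist.orig_eq_span, Ideal.map_span]
    have hval : ∀ m : Q, algebraMap (AddMonoidAlgebra K Q) S (AddMonoidAlgebra.single m 1) =
        w (Multiplicative.ofAdd m) * τ (Multiplicative.ofAdd m) := by
      intro m
      rw [← hw]
      change algebraMap P S (lift K σ (AddMonoidAlgebra.single m 1)) = _
      rw [lift_single, map_one, one_mul]
      rfl
    apply le_antisymm
    · rw [Ideal.span_le]
      rintro _ ⟨_, ⟨m, rfl⟩, rfl⟩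
      change algebraMap (AddMonoidAlgebra K Q) S (AddMonoidAlgebra.single m.1 1) ∈ _
      rw [hval]
      exact Ideal.mul_mem_left _ _ (Ideal.subset_span ⟨m, rfl⟩)
    · rw [Ideal.span_le]
      rintro _ ⟨m, rfl⟩
      have h4 : τ (Multiplicative.ofAdd m.1) = ((w (Multiplicative.ofAdd m.1))⁻¹ : Sˣ) *
          algebraMap (AddMonoidAlgebra K Q) S (AddMonoidAlgebra.single m.1 1) := by
        rw [hval, ← mul_assoc, Units.inv_mul, one_mul]
      change τ (Multiplicative.ofAdd m.1) ∈ _
      rw [h4]
      exact Ideal.mul_mem_left _ _ (Ideal.subset_span ⟨_, ⟨m, rfl⟩, rfl⟩)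
  have hple : p ≤ q.comap (algebraMap (AddMonoidAlgebra K Q) P) := by
    rw [← hq, Ideal.comap_comap]
    change p ≤ (maximalIdeal S).comap (algebraMap (AddMonoidAlgebra K Q) S)
    rw [← Ideal.map_le_iff_le_comap, hpS, Ideal.span_le]
    rintro _ ⟨m, rfl⟩
    exact hτm m.1 m.2
  have hpq : p = q.comap (algebraMap (AddMonoidAlgebra K Q) P) :=
    hpmax.eq_of_le (Ideal.comap_isPrime _ _).ne_top hple
  have hover : q.LiesOver p := ⟨hpq⟩
  -- the fibre
  have hpA : (p.map (algebraMap (AddMonoidAlgebra K Q) A)).map (algebraMap A S) =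
      p.map (algebraMap (AddMonoidAlgebra K Q) S) := by
    rw [Ideal.map_map]
    congr 1
    exact (IsScalarTower.algebraMap_eq (AddMonoidAlgebra K Q) A S).symm
  have hne : p.map (algebraMap (AddMonoidAlgebra K Q) A) ≠ ⊤ := by
    intro htop
    rw [htop, Ideal.map_top] at hpA
    have h5 : p.map (algebraMap (AddMonoidAlgebra K Q) S) ≤ maximalIdeal S := by
      rw [hpS, Ideal.span_le]
      rintro _ ⟨m, rfl⟩
      exact hτm m.1 m.2
    rw [← hpA] at h5
    exact (maximalIdeal.isMaximal S).ne_top (top_le_iff.mp h5)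
  have hregA : IsRegularLocalRing (A ⧸ p.map (algebraMap (AddMonoidAlgebra K Q) A)) := by
    refine regular_quot (S := S) _ hne ?_
    rw [hpA, hpS]
    exact hreg
  have hregF : IsRegularLocalRing (p.ResidueField ⊗[AddMonoidAlgebra K Q] A) := by
    let e1 : (AddMonoidAlgebra K Q ⧸ p) ≃ₐ[AddMonoidAlgebra K Q] p.ResidueField :=
      AlgEquiv.ofBijective (IsScalarTower.toAlgHom _ _ _) (Ideal.bijective_algebraMap_quotient_residueField p)
    let e2 := (Algebra.TensorProduct.quotIdealMapEquivQuotTensor A p).toRingEquiv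
    let e3 : (AddMonoidAlgebra K Q ⧸ p) ⊗[AddMonoidAlgebra K Q] A ≃ₐ[AddMonoidAlgebra K Q]
      p.ResidueField ⊗[AddMonoidAlgebra K Q] A := Algebra.TensorProduct.congr e1 AlgEquiv.refl
    exact IsRegularLocalRing.of_ringEquiv (e2.trans e3.toRingEquiv)
  have hchar : CharZero p.ResidueField := by
    have := (algebraMap K p.ResidueField).injective
    exact charZero_of_injective_algebraMap this
  have hess : Algebra.EssFiniteType (AddMonoidAlgebra K Q) A := inferInstance
  have hfs : Algebra.FormallySmooth p.ResidueField (p.ResidueField ⊗[AddMonoidAlgebra K Q] A) :=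
    K427.GenSmooth.formallySmooth_of_perfectField _ _
  exact Groth.Agent.Flat2E.SmoothInf.isSmoothAt_of_flat_of_formallySmooth p q

end K913.Part2Loc
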