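import Groth.Agent.Resolve.K891.Cut
import Groth.Agent.Flat2E.LocalCrit

/-!
# Node C of the resolution project: twisting a chart by units

`K913.Part2Twist.flat`: if `K[Q] → S` (given by `τ : Q → S`) is flat and `τ' = w τ` with a homomorphism `w` from `Q` to
the units of `S`, then the homomorphism given by `τ'` is flat as well (`S` Noetherian, the monomials of `Q \ 0` in the
Jacobson radical of `S`, `Q` sharp).
-/

set_option autoImplicit false
universe u

open K84.Iface K891.Cut TensorProduct Function

namespace K913.Part2Twist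

section Orig

variable (K : Type u) [Field K] {Q : Type} [AddCommMonoid Q] (hs : ∀ a b : Q, a + b = 0 → a = 0)

open Classical in
/-- the character of the origin -/
noncomputable def chi : Multiplicative Q →* K where
  toFun m := if Multiplicative.toAdd m = 0 then 1 else 0
  map_one' := if_pos rfl
  map_mul' a b := by
    by_cases ha : Multiplicative.toAdd a = 0
    · by_cases hb : Multiplicative.toAdd b = 0
      · rw [if_pos ha, if_pos hb, if_pos (by rw [toAdd_mul, ha, hb, add_zero]), mul_one]
      · rw [if_neg hb, if_neg (by rwa [toAdd_mul, ha, zero_add]), mul_zero]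
    · rw [if_neg ha, zero_mul, if_neg]
      intro h
      exact ha (hs _ _ h)

/-- the augmentation at the origin -/
noncomputable def eps : AddMonoidAlgebra K Q →ₐ[K] K := AddMonoidAlgebra.lift K K Q (chi K hs)

theorem eps_single (m : Q) (c : K) : eps K hs (AddMonoidAlgebra.single m c) = open Classical in if m = 0 then c else 0 := by
  classical
  rw [eps, AddMonoidAlgebra.lift_single]
  change c • (if m = 0 then (1 : K) else 0) = _
  by_cases h : m = 0
  · rw [if_pos h, if_pos h, smul_eq_mul, mul_one]
  · rw [if_neg h, if_neg h, smul_zero]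

theorem eps_eq (f : AddMonoidAlgebra K Q) : eps K hs f = f.coeff 0 := by
  classical
  induction f using AddMonoidAlgebra.induction_linear with
  | zero => simp
  | add x y hx hy => rw [map_add, hx, hy]; rfl
  | single m c =>
    rw [eps_single, AddMonoidAlgebra.coeff_single, Finsupp.single_apply]

/-- the ideal of the origin -/
noncomputable def orig : Ideal (AddMonoidAlgebra K Q) := RingHom.ker (eps K hs).toRingHom

theorem mem_orig {f : AddMonoidAlgebra K Q} : f ∈ orig K hs ↔ f.coeff 0 = 0 := by
  rw [orig, RingHom.mem_ker, ← eps_eq K hs]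
  rfl

theorem single_mem (m : Q) (hm : m ≠ 0) (c : K) : AddMonoidAlgebra.single m c ∈ orig K hs := by
  classical
  rw [mem_orig, AddMonoidAlgebra.coeff_single, Finsupp.single_apply, if_neg hm]

theorem isMaximal : (orig K hs).IsMaximal := by
  refine RingHom.ker_isMaximal_of_surjective _ ?_
  intro c
  exact ⟨algebraMap K _ c, (eps K hs).commutes c⟩

variable {K} in
/-- the monomial `c x^m` in the ideal of the origin -/
noncomputable def sg (m : Q) (hm : m ≠ 0) (c : K) : orig K hs := ⟨AddMonoidAlgebra.single m c, single_mem K hs m hm c⟩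

variable {K hs} in
theorem induction {p : orig K hs → Prop} (h0 : p 0) (hadd : ∀ x y, p x → p y → p (x + y))
    (h1 : ∀ (m : Q) (hm : m ≠ 0) (c : K), p (sg hs m hm c))
    (x : orig K hs) : p x := by
  classical
  have hx : x.1.coeff 0 = 0 := (mem_orig K hs).mp x.2
  have hne : ∀ m ∈ x.1.coeff.support, m ≠ 0 := by
    rintro m hm rfl
    exact (Finsupp.mem_support_iff.mp hm) hx
  have hsum : x = ∑ m ∈ x.1.coeff.support.attach,
      sg hs m.1 (hne _ m.2) (x.1.coeff m.1) := by
    apply Subtype.ext
    rw [AddSubmonoidClass.coe_finsetSum]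
    change x.1 = ∑ m ∈ x.1.coeff.support.attach, AddMonoidAlgebra.single m.1 (x.1.coeff m.1)
    rw [Finset.sum_attach x.1.coeff.support (fun m => AddMonoidAlgebra.single m (x.1.coeff m))]
    exact (AddMonoidAlgebra.sum_coeff_single x.1).symm
  rw [hsum]
  exact Finset.sum_induction _ p hadd h0 fun m _ => h1 m.1 (hne _ m.2) _

theorem orig_eq_span : orig K hs =
    Ideal.span (Set.range fun m : {m : Q // m ≠ 0} => AddMonoidAlgebra.single m.1 (1 : K)) := by
  apply le_antisymm
  · intro x hx
    suffices h : ∀ y : orig K hs, y.1 ∈ Ideal.span (Set.range fun m : {m : Q // m ≠ 0} =>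
        AddMonoidAlgebra.single m.1 (1 : K)) from h ⟨x, hx⟩
    intro y
    refine induction (p := fun y => y.1 ∈ Ideal.span (Set.range fun m : {m : Q // m ≠ 0} =>
        AddMonoidAlgebra.single m.1 (1 : K))) (Ideal.zero_mem _) (fun _ _ => Ideal.add_mem _) ?_ y
    intro m hm c
    have h1 : (AddMonoidAlgebra.single m c : AddMonoidAlgebra K Q) =
        AddMonoidAlgebra.single 0 c * AddMonoidAlgebra.single m 1 := by
      rw [AddMonoidAlgebra.single_mul_single, zero_add, mul_one]
    change AddMonoidAlgebra.single m c ∈ _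
    rw [h1]
    exact Ideal.mul_mem_left _ _ (Ideal.subset_span ⟨⟨m, hm⟩, rfl⟩)
  · rw [Ideal.span_le]
    rintro _ ⟨m, rfl⟩
    exact single_mem K hs m.1 m.2 1

end Orig

section Twist

variable {K : Type u} [Field K] {Q : Type} [AddCommMonoid Q] {hs : ∀ a b : Q, a + b = 0 → a = 0}
  {S₁ S₂ : Type u} [CommRing S₁] [CommRing S₂] [Algebra (AddMonoidAlgebra K Q) S₁]
  [Algebra (AddMonoidAlgebra K Q) S₂] (e : S₁ ≃+* S₂) (w : Multiplicative Q →* S₂ˣ)

/-- one monomial of the twist -/
noncomputable def tw₀ (m : Q) (hm : m ≠ 0) :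
    K →+ S₁ →+ (orig K hs ⊗[AddMonoidAlgebra K Q] S₂) :=
  AddMonoidHom.mk' (fun c => AddMonoidHom.mk' (fun s =>
    sg hs m hm c ⊗ₜ[AddMonoidAlgebra K Q]
      (((w (Multiplicative.ofAdd m))⁻¹ : S₂ˣ) * e s))
    (fun s s' => by rw [map_add, mul_add, TensorProduct.tmul_add])) (fun c c' => by
    ext s
    simp only [AddMonoidHom.mk'_apply, AddMonoidHom.add_apply]
    rw [← TensorProduct.add_tmul]
    congr 1
    apply Subtype.ext
    exact AddMonoidAlgebra.single_add _ _ _)

open Classical in
/-- the twist as a bi-additive map -/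
noncomputable def tw : orig K hs →+ S₁ →+ (orig K hs ⊗[AddMonoidAlgebra K Q] S₂) :=
  (Finsupp.liftAddHom (fun m => if hm : m ≠ 0 then tw₀ (hs := hs) e w m hm else 0)).comp
    (AddMonoidAlgebra.coeffAddEquiv.toAddMonoidHom.comp (orig K hs).subtype.toAddMonoidHom)

omit [Algebra (AddMonoidAlgebra K Q) S₁] in
theorem tw_single (m : Q) (hm : m ≠ 0) (c : K) (s : S₁) :
    tw e w (sg hs m hm c) s =
      sg hs m hm c ⊗ₜ[AddMonoidAlgebra K Q]
        (((w (Multiplicative.ofAdd m))⁻¹ : S₂ˣ) * e s) := by
  classical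
  change (Finsupp.liftAddHom (fun m => if hm : m ≠ 0 then tw₀ (hs := hs) e w m hm else 0))
    (Finsupp.single m c) s = _
  rw [Finsupp.liftAddHom_apply_single, dif_pos hm]
  rfl

variable (hw : ∀ (m : Q) (c : K), algebraMap (AddMonoidAlgebra K Q) S₂ (AddMonoidAlgebra.single m c) =
  w (Multiplicative.ofAdd m) * e (algebraMap (AddMonoidAlgebra K Q) S₁ (AddMonoidAlgebra.single m c)))

include hw in
theorem tw_smul (r : AddMonoidAlgebra K Q) (x : orig K hs) (s : S₁) :
    tw e w (r • x) s = tw e w x (r • s) := by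
  classical
  induction r using AddMonoidAlgebra.induction_linear with
  | zero => rw [zero_smul, zero_smul, map_zero, map_zero]; rfl
  | add r r' hr hr' => rw [add_smul, add_smul, map_add, map_add, ← hr, ← hr']; rfl
  | single n c =>
    refine induction (p := fun x => tw e w (AddMonoidAlgebra.single n c • x) s =
      tw e w x (AddMonoidAlgebra.single n c • s)) ?_ ?_ ?_ x
    · rw [smul_zero, map_zero]; rfl
    · intro x y hx hy
      rw [smul_add, map_add, map_add, AddMonoidHom.add_apply, AddMonoidHom.add_apply, hx, hy]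
    · intro m hm d
      have hnm : n + m ≠ 0 := by
        intro h
        exact hm (hs m n ((add_comm m n).trans h))
      have h1 : (AddMonoidAlgebra.single n c : AddMonoidAlgebra K Q) •
          sg hs m hm d =
          sg hs (n + m) hnm (c * d) := by
        apply Subtype.ext
        exact AddMonoidAlgebra.single_mul_single n m c d
      rw [tw_single, h1, tw_single, ← h1, ← TensorProduct.smul_tmul', ← TensorProduct.tmul_smul]
      congr 1
      rw [Algebra.smul_def, Algebra.smul_def, map_mul, hw, ofAdd_add, map_mul, mul_inv, Units.val_mul]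
      have h2 := (w (Multiplicative.ofAdd n)).mul_inv
      linear_combination (e (algebraMap _ S₁ (AddMonoidAlgebra.single n c)) * e s *
        ((w (Multiplicative.ofAdd m))⁻¹ : S₂ˣ)) * h2

/-- the twist -/
noncomputable def twist : (orig K hs ⊗[AddMonoidAlgebra K Q] S₁) →+ (orig K hs ⊗[AddMonoidAlgebra K Q] S₂) :=
  TensorProduct.liftAddHom (tw e w) (fun r x s => tw_smul e w hw r x s)

theorem twist_surjective : Surjective (twist (hs := hs) e w hw) := by
  intro y
  induction y with
  | zero => exact ⟨0, map_zero _⟩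
  | add y y' hy hy' =>
    obtain ⟨z, rfl⟩ := hy
    obtain ⟨z', rfl⟩ := hy'
    exact ⟨z + z', map_add _ _ _⟩
  | tmul x s =>
    revert s
    refine induction (p := fun x => ∀ s : S₂, ∃ a, twist (hs := hs) e w hw a = x ⊗ₜ s) ?_ ?_ ?_ x
    · intro s
      exact ⟨0, by rw [map_zero, TensorProduct.zero_tmul]⟩
    · intro x y hx hy s
      obtain ⟨z, hz⟩ := hx s
      obtain ⟨z', hz'⟩ := hy s
      exact ⟨z + z', by rw [map_add, hz, hz', TensorProduct.add_tmul]⟩
    · intro m hm c s
      refine ⟨(sg hs m hm c) ⊗ₜ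
        e.symm (w (Multiplicative.ofAdd m) * s), ?_⟩
      change tw e w _ _ = _
      rw [tw_single, e.apply_symm_apply, ← mul_assoc, Units.inv_mul, one_mul]

/-- multiplication `J ⊗ S → S` -/
noncomputable def mu (S : Type u) [CommRing S] [Algebra (AddMonoidAlgebra K Q) S] :
    (orig K hs ⊗[AddMonoidAlgebra K Q] S) →ₗ[AddMonoidAlgebra K Q] S :=
  (TensorProduct.lid (AddMonoidAlgebra K Q) S).toLinearMap ∘ₗ (orig K hs).subtype.rTensor S

theorem mu_tmul (S : Type u) [CommRing S] [Algebra (AddMonoidAlgebra K Q) S] (x : orig K hs) (s : S) :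
    mu S (x ⊗ₜ[AddMonoidAlgebra K Q] s) = algebraMap (AddMonoidAlgebra K Q) S x.1 * s := by
  change TensorProduct.lid (AddMonoidAlgebra K Q) S (x.1 ⊗ₜ s) = _
  rw [TensorProduct.lid_tmul, Algebra.smul_def]

theorem mu_twist (z : orig K hs ⊗[AddMonoidAlgebra K Q] S₁) : mu S₂ (twist e w hw z) = e (mu S₁ z) := by
  induction z with
  | zero => simp
  | add y y' hy hy' => rw [map_add, map_add, map_add, map_add, hy, hy']
  | tmul x s =>
    refine induction (p := fun x => mu S₂ (twist (hs := hs) e w hw (x ⊗ₜ s)) = e (mu S₁ (x ⊗ₜ s))) ?_ ?_ ?_ x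
    · rw [TensorProduct.zero_tmul, map_zero, map_zero, map_zero, map_zero]
    · intro x y hx hy
      rw [TensorProduct.add_tmul, map_add, map_add, map_add, map_add, hx, hy]
    · intro m hm c
      have h1 : twist (hs := hs) e w hw (sg hs m hm c ⊗ₜ s) =
          sg hs m hm c ⊗ₜ[AddMonoidAlgebra K Q]
        (((w (Multiplicative.ofAdd m))⁻¹ : S₂ˣ) * e s) := tw_single e w m hm c s
      rw [h1, mu_tmul, mu_tmul, map_mul]
      change algebraMap (AddMonoidAlgebra K Q) S₂ (AddMonoidAlgebra.single m c) * _ =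
        e (algebraMap (AddMonoidAlgebra K Q) S₁ (AddMonoidAlgebra.single m c)) * _
      rw [hw]
      have h2 := (w (Multiplicative.ofAdd m)).mul_inv
      linear_combination (e (algebraMap _ S₁ (AddMonoidAlgebra.single m c)) * e s) * h2

include hw in
theorem flat_aux [IsNoetherianRing (AddMonoidAlgebra K Q)] [IsNoetherianRing S₂]
    (hJ : (orig K hs).map (algebraMap (AddMonoidAlgebra K Q) S₂) ≤ (⊥ : Ideal S₂).jacobson)
    [hf : Module.Flat (AddMonoidAlgebra K Q) S₁] : Module.Flat (AddMonoidAlgebra K Q) S₂ := by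
  have hmax : (orig K hs).IsMaximal := isMaximal K hs
  have h1 : Injective (mu (K := K) (hs := hs) S₁) :=
    (TensorProduct.lid (AddMonoidAlgebra K Q) S₁).injective.comp
      (Module.Flat.rTensor_preserves_injective_linearMap _ (Submodule.injective_subtype _))
  have h2 : Injective (mu (K := K) (hs := hs) S₂) := by
    rw [injective_iff_map_eq_zero]
    intro y hy
    obtain ⟨z, rfl⟩ := twist_surjective e w hw y
    rw [mu_twist, map_eq_zero_iff _ e.injective] at hy
    rw [(injective_iff_map_eq_zero _).mp h1 z hy, map_zero]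
  have h3 : Injective ((orig K hs).subtype.rTensor S₂) := by
    intro a b hab
    exact h2 (congrArg (TensorProduct.lid (AddMonoidAlgebra K Q) S₂) hab)
  refine Groth.Agent.Flat2E.LocalCrit.flat_of_rTensor_injective (S := S₂) (orig K hs) hJ h3 ?_
  let := Ideal.Quotient.field (orig K hs)
  infer_instance

end Twist

/-- **Twisting by units preserves flatness.** -/
theorem flat {K : Type u} [Field K] {Q : Type} [AddCommMonoid Q] (hs : ∀ a b : Q, a + b = 0 → a = 0)
    [IsNoetherianRing (AddMonoidAlgebra K Q)] {S : Type u} [CommRing S] [IsNoetherianRing S] [Algebra K S]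
    (τ τ' : Multiplicative Q →* S) (w : Multiplicative Q →* Sˣ) (hw : ∀ m, τ' m = w m * τ m)
    (hJ : ∀ m : Q, m ≠ 0 → τ (Multiplicative.ofAdd m) ∈ (⊥ : Ideal S).jacobson)
    (h : (lift K τ).Flat) : (lift K τ').Flat := by
  have hl : ∀ (τ : Multiplicative Q →* S) (m : Q) (c : K), lift K τ (AddMonoidAlgebra.single m c) =
      algebraMap K S c * τ (Multiplicative.ofAdd m) := by
    intro τ m c
    change AddMonoidAlgebra.lift K S Q τ (AddMonoidAlgebra.single m c) = _
    rw [AddMonoidAlgebra.lift_single, Algebra.smul_def]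
  refine @flat_aux K _ Q _ hs S S _ _ (lift K τ).toAlgebra (lift K τ').toAlgebra (RingEquiv.refl S) w ?_ _ _ ?_ h
  · intro m c
    change lift K τ' (AddMonoidAlgebra.single m c) = w _ * lift K τ (AddMonoidAlgebra.single m c)
    rw [hl, hl, hw]
    ring
  · change (orig K hs).map (lift K τ') ≤ _
    rw [orig_eq_span, Ideal.map_span, Ideal.span_le]
    rintro _ ⟨_, ⟨m, rfl⟩, rfl⟩
    change lift K τ' (AddMonoidAlgebra.single m.1 (1 : K)) ∈ (⊥ : Ideal S).jacobson
    rw [hl, map_one, one_mul, hw]
    exact Ideal.mul_mem_left _ _ (hJ m.1 m.2)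

end K913.Part2Twist
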